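import Mathlib
import Cfsg.Agent.H396.HasCG
import Cfsg.Agent.Nodes.RGDClass
import Cfsg.Agent.Nodes.TyChart
import Cfsg.Agent.Nodes.KindBC
import Cfsg.Agent.Mrg.Nodes.RGDAllP
import Cfsg.Agent.Mrg.Omega.EH3.Kf.TwUni

/-!
# `HasCG`: the families with a Witt frame (helper396)

`PSp_{2m}(q)`, `q > 2`, `PSU_N(q)`, `N ≥ 4`, `PΩ_{2m+1}(q)`, `q` odd, `PΩ⁻_{2m+2}(q)`; every characteristic.
-/

set_option autoImplicit false
set_option linter.unusedSectionVars false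

namespace Cfsg.Agent.H396.CommTab

open Cfsg
open Cfsg.Agent.ChevalleyStructure.CoxeterGeom Cfsg.Agent.Tits.Roots
open Cfsg.Agent.Nodes Cfsg.Agent.Nodes.TypeC
open Cfsg.Agent.Nodes.Comb Cfsg.Agent.Nodes.Reps Cfsg.Agent.Nodes.WittRoot Cfsg.Agent.Nodes.BNOf
open Cfsg.Agent.Nodes.RGDLib Cfsg.Agent.Nodes.WittAll Cfsg.Agent.Nodes.WittU Cfsg.Agent.Nodes.RGDChev
open Cfsg.Agent.TitsThree Cfsg.Agent.TitsThree.Siegel Cfsg.Agent.TitsThree.SiegelGen
  Cfsg.Agent.TitsThree.WittFrame Cfsg.Agent.TitsThree.WBridge Cfsg.Agent.TitsThree.WittWeyl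
  Cfsg.Agent.TitsThree.FrameCN Cfsg.Agent.TitsThree.KSideU Cfsg.Agent.TitsThree.KSideUDesc
open Cfsg.Agent.LieClassical.HermBasic
open Cfsg.Agent.Omega.EH3.Kf

section Model

variable {F : Type*} [Field F] {V : Type*} [AddCommGroup V] [Module F V] {H : HForm F V} {n : ℕ}
  {Fr : Frame H (Fin n)} {K : Type*} [Group K] {p : ℕ}

theorem hasCG_C (M : Model Fr K) (hA : AmbT Fr p M.I) [Finite V] [Fact p.Prime] [CharP F p] {p0 : Fr.Adm}
    (hp0 : p0.c ≠ 0) (hn : 2 ≤ n) (hG : TwC.Gd (Nodes.WittModel.X M)) : HasCG p K :=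
  ⟨n, CoxeterMatrix.B n, A n, isCartan n, _, _, _, hn, finite_W (CoxeterMatrix.B n).toCoxeterSystem,
    rgdC_model M hA hp0 _, WittModel.G1_eq_top _ (by omega) _,
    fun _ hr h0 hs => hG.gen _ hr h0 hs, Nodes.KindBC.irr n⟩

end Model

/-! ### Unitary groups -/

section Unitary

variable {F : Type*} [Field F] [Fintype F] {q N m : ℕ} (hF : Fintype.card F = q ^ 2)

theorem htr_even (W : WFrame (PU hF N) m) (hW : W.V0 = ⊥) (p : (toFrame W).Adm) :
    ∃ t, p = Frame.Adm.tr t := by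
  have h1 := TwUni.c_eq hF W hW p
  have hw := TwUni.w_zero hF W hW p
  by_cases h2 : (2 : F) = 0
  · have h3 : p.c ^ q = p.c := by
      have h4 : p.c + p.c = 0 := by rw [← two_mul, h2, zero_mul]
      have h5 : p.c ^ q = -p.c := eq_neg_of_add_eq_zero_right h1
      rw [h5]; exact neg_eq_of_add_eq_zero_left h4
    obtain ⟨t, ht⟩ := exists_trace_eq hF h3
    refine ⟨t, Frame.Adm.ext ?_ ?_⟩
    · rw [hw]; rfl
    · rw [Frame.Adm.tr_c]
      show p.c = t - (1 : F)⁻¹ * t ^ q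
      rw [inv_one, one_mul, ← ht]
      linear_combination (t ^ q) * h2
  · refine ⟨p.c / 2, Frame.Adm.ext ?_ ?_⟩
    · rw [hw]; rfl
    · rw [Frame.Adm.tr_c]
      show p.c = p.c / 2 - (1 : F)⁻¹ * (p.c / 2) ^ q
      have h5 : p.c ^ q = -p.c := eq_neg_of_add_eq_zero_right h1
      have h6 : (2 : F) ^ q = 2 := by
        have h7 : (1 + 1 : F) ^ q = 1 ^ q + 1 ^ q := add_pow_q hF 1 1
        rw [one_pow] at h7
        rw [show (2 : F) = 1 + 1 by norm_num]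
        exact h7
      rw [div_pow, h5, h6]
      field_simp
      ring

theorem exists_ok (W : WFrame (PU hF N) m) {d : Fin N → F} (hW : W.V0 = Submodule.span F {d}) (a : F) :
    ∃ c, (toFrame W).ok (a • d) c := by
  obtain ⟨c, hc⟩ := (PU hF N).ex (a • d)
  have hd : d ∈ (toFrame W).V0 := by
    show d ∈ W.V0
    rw [hW]; exact Submodule.mem_span_singleton_self d
  exact ⟨c, (toFrame W).V0.smul_mem a hd, hc⟩

include hF in
theorem hasCG_PSU {p : ℕ} [Fact p.Prime] [CharP F p] (hN : 4 ≤ N) : HasCG p (PSU N F q) := by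
  obtain ⟨m, hm⟩ : ∃ m, N = 2 * m ∨ N = 2 * m + 1 := ⟨N / 2, by omega⟩
  rcases hm with hm | hm
  · subst hm
    obtain ⟨W, hW⟩ := exists_wframe_even (N := 2 * m) hF rfl
    obtain ⟨p0, hp0, -⟩ := exists_adm hF W
    exact hasCG_C (KInstU.model hF (by omega) W) (AmbT.of_amb (amb_U hF W) p) hp0 (by omega)
      (TwWitt.gd_of_tr _ (htr_even hF W hW) hp0)
  · subst hm
    obtain ⟨W, d, hd, hW⟩ := exists_wframe_odd (N := 2 * m + 1) hF rfl
    obtain ⟨p0, hp0, -⟩ := exists_adm hF W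
    refine hasCG_C (KInstU.model hF (by omega) W) (AmbT.of_amb (amb_U hF W) p) hp0 (by omega)
      (UOdd.gd _ ⟨d, ?_, exists_ok hF W hW⟩)
    have h1 : (HU hF (2 * m + 1)).h d d = 1 := hd
    rw [h1]
    exact one_ne_zero

end Unitary

theorem exists_ne {F : Type*} [Field F] [Fintype F] (hF : 2 < Fintype.card F) : ∃ t : F, t ≠ 0 ∧ t ≠ 1 := by
  classical
  obtain ⟨t, ht⟩ := Fintype.exists_ne_of_one_lt_card (α := Fˣ) (by rw [Fintype.card_units]; omega) 1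
  exact ⟨t, t.ne_zero, fun h => ht (Units.ext h)⟩

/-! ### Symplectic groups -/

theorem hasCG_PSp {F : Type*} [Field F] [Fintype F] {m : ℕ} (hm : 2 ≤ m) (hF : 2 < Fintype.card F) {p : ℕ}
    [Fact p.Prime] [CharP F p] : HasCG p (PSp m F) := by
  obtain ⟨t, ht0, ht1⟩ := exists_ne hF
  have hw : ∀ p : (SpIdent.frame m F).Adm, p.w = 0 := fun p =>
    (Submodule.mem_bot F).1 ((SpIdent.frame m F).ok_mem p.ok)
  exact hasCG_C (KInstSp.model m F) (AmbT.of_amb amb_Sp p) (p0 := SpIdent.adm 1) one_ne_zero hm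
    (TwWitt.gd_of_sp _ hw (fun _ => rfl) (fun c => ⟨SpIdent.adm c, rfl⟩) ht0 ht1)

/-! ### Orthogonal groups -/

section Orthogonal

open QuadraticMap
open Cfsg.Agent.LieClassical Cfsg.Agent.LieClassical.OrthCore Cfsg.Agent.LieClassical.OrthTrans
open Cfsg.Agent.LieClassical.OrthSimple Cfsg.Agent.LieClassical.OrthFinite
open Cfsg.Agent.LieClassical.OrthForms
open Cfsg.Agent.TitsThree.KSideO Cfsg.Agent.TitsThree.StdData Cfsg.Agent.Nodes.WittInst

variable {ι : Type} [Fintype ι] [DecidableEq ι] {F : Type*} [Field F] {Q : QuadraticForm F (ι → F)} {m : ℕ}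

theorem exists_d (W : WFrame (PO Q) m) (h2 : (2 : F) ≠ 0) {d : ι → F} (hd : d ∈ W.V0) (hQ : Q d ≠ 0) :
    ∃ d : ι → F, (HO Q).h d d ≠ 0 ∧ ∀ a : F, ∃ c, (toFrame W).ok (a • d) c := by
  refine ⟨d, ?_, fun a => ⟨-Q (a • d), W.V0.smul_mem a hd, rfl⟩⟩
  rw [HO_h, polar_self']
  exact mul_ne_zero h2 hQ

theorem hasCG_PO_odd [Finite F] (h2 : (2 : F) ≠ 0) (hm : 2 ≤ m) {p : ℕ} [Fact p.Prime] [CharP F p] :
    HasCG p (Cfsg.POmega F (Cfsg.quadFormOdd m F)) := by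
  rw [← coe_oddForm]
  have hG : Good (oddForm m F) := by
    apply good_of_finite (nondeg_oddForm m F h2)
    rw [Module.finrank_fintype_fun_eq_card, Fintype.card_sum, Fintype.card_sum, Fintype.card_fin,
      Fintype.card_unit]
    omega
  have hp : ((embOdd m F).ngt ⟨1, -1 ^ 2, rfl⟩).c ≠ 0 := by
    change (1 : F)⁻¹ * (-1 ^ 2) ≠ 0
    simp
  refine hasCG_C (model (wodd m F) hG ⟨_, hp⟩) (AmbT.of_amb (amb_O_of_two _ h2) p) hp hm ?_
  refine UOdd.gd _ ?_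
  have hw := ((embOdd m F).ngt ⟨1, -1 ^ 2, rfl⟩)
  refine exists_d (wodd m F) h2 (d := ((embOdd m F).ngt ⟨1, -1 ^ 2, rfl⟩).w)
    ((embOdd m F).ngt ⟨1, -1 ^ 2, rfl⟩).ok.1 ?_
  intro h0
  apply hp
  have h3 : ((embOdd m F).ngt ⟨1, -1 ^ 2, rfl⟩).c = -(oddForm m F) ((embOdd m F).ngt ⟨1, -1 ^ 2, rfl⟩).w :=
    ((embOdd m F).ngt ⟨1, -1 ^ 2, rfl⟩).ok.2
  rw [h3, h0, _root_.neg_zero]

theorem hasCG_PO_minus [Finite F] (a b : F)
    (hab : ∀ z₁ z₂ : F, z₁ ^ 2 + a * z₁ * z₂ + b * z₂ ^ 2 = 0 → z₁ = 0 ∧ z₂ = 0)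
    (hm : 2 ≤ m) {p : ℕ} [Fact p.Prime] [CharP F p] :
    HasCG p (Cfsg.POmega F (Cfsg.quadFormMinus m F a b)) := by
  rw [← coe_minusForm]
  have hG : Good (minusForm m F a b) := by
    apply good_of_finite (nondeg_minusForm m F a b hab)
    rw [Module.finrank_fintype_fun_eq_card, Fintype.card_sum, Fintype.card_sum, Fintype.card_fin,
      Fintype.card_fin]
    omega
  have hp : ((embMinus m F a b hab).ngt ⟨(1, 0), -nf a b (1, 0), rfl⟩).c ≠ 0 := by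
    change (1 : F)⁻¹ * (-nf a b (1, 0)) ≠ 0
    simp [nf]
  by_cases h2 : (2 : F) = 0
  · have h3 : CharP F 2 := CharTwo.of_one_ne_zero_of_two_eq_zero one_ne_zero h2
    have hp2 : p = 2 := CharP.eq F ‹CharP F p› h3
    subst hp2
    refine hasCG_C (model (wminus m F a b hab) hG ⟨_, hp⟩)
      (ambT_O _ fun g hg hg2 hb => fixp_minus a b hab h2 hm hG hg hg2 hb) hp hm ?_
    exact TwWitt.gd_of_surj (model (wminus m F a b hab) hG ⟨_, hp⟩) (OMinusBd.exists_h_minus a b hab)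
  · refine hasCG_C (model (wminus m F a b hab) hG ⟨_, hp⟩) (AmbT.of_amb (amb_O_of_two _ h2) p) hp hm ?_
    refine UOdd.gd _ (exists_d (wminus m F a b hab) h2
      (d := ((embMinus m F a b hab).ngt ⟨(1, 0), -nf a b (1, 0), rfl⟩).w)
      ((embMinus m F a b hab).ngt ⟨(1, 0), -nf a b (1, 0), rfl⟩).ok.1 ?_)
    intro h0
    apply hp
    have h3 : ((embMinus m F a b hab).ngt ⟨(1, 0), -nf a b (1, 0), rfl⟩).c =
        -(minusForm m F a b) ((embMinus m F a b hab).ngt ⟨(1, 0), -nf a b (1, 0), rfl⟩).w :=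
      ((embMinus m F a b hab).ngt ⟨(1, 0), -nf a b (1, 0), rfl⟩).ok.2
    rw [h3, h0, _root_.neg_zero]

end Orthogonal

end Cfsg.Agent.H396.CommTab
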