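import Mathlib
import Cfsg.Agent.SplitTwo.HexDefs

/-!
# Commutators in hexagonal systems, every characteristic (helper396)

`R : HexRel σ x₁ … x₆`, values in `U`:

* `gen_one` : `σ = 1`, at least four elements: `x₂, x₃, x₄, x₅ ∈ ⁅U, U⁆`;
* `gen_ne` : `σ ≠ 1`, characteristic not two: the same.
-/

set_option autoImplicit false

namespace Cfsg.Agent.H396.HexGen

open Cfsg.Agent.SplitTwo
open scoped commutatorElement

variable {E : Type*} [Field E] {σ : E ≃+* E} {G : Type*} [Group G] {x1 x2 x3 x4 x5 x6 : E → G}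

theorem kk_mem {U : Subgroup G} {a b : G} (ha : a ∈ U) (hb : b ∈ U) : kk a b ∈ ⁅U, U⁆ := by
  have h1 : kk a b = ⁅a⁻¹, b⁻¹⁆ := by
    rw [kk, commutatorElement_def, inv_inv, inv_inv]
  rw [h1]
  exact Subgroup.commutator_mem_commutator (inv_mem ha) (inv_mem hb)

/-- an element of `U` trivial in the abelianization -/
theorem mem_of_ab {U : Subgroup G} {x : G} (hx : x ∈ U) (h : Abelianization.of (⟨x, hx⟩ : U) = 1) : x ∈ ⁅U, U⁆ := by
  have h1 : (⟨x, hx⟩ : U) ∈ commutator U := by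
    rw [← Abelianization.ker_of]
    exact h
  have h2 : ((⟨x, hx⟩ : U) : G) ∈ (commutator U).map U.subtype := ⟨_, h1, rfl⟩
  rwa [Subgroup.map_subtype_commutator] at h2

/-- the values in the abelianization of `U` -/
noncomputable def av (U : Subgroup G) (x : E → G) (hx : ∀ a, x a ∈ U) (a : E) : Additive (Abelianization U) :=
  Additive.ofMul (Abelianization.of (⟨x a, hx a⟩ : U))

omit [Field E] in
theorem mem_of_av {U : Subgroup G} {x : E → G} (hx : ∀ a, x a ∈ U) {a : E} (h : av U x hx a = 0) :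
    x a ∈ ⁅U, U⁆ := mem_of_ab (hx a) h

section one

variable (R : HexRel (RingEquiv.refl E) x1 x2 x3 x4 x5 x6) {U : Subgroup G} (h1 : ∀ a, x1 a ∈ U)
  (h2 : ∀ a, x2 a ∈ U) (h3 : ∀ a, x3 a ∈ U) (h4 : ∀ a, x4 a ∈ U) (h5 : ∀ a, x5 a ∈ U) (h6 : ∀ a, x6 a ∈ U)
include R h1 h2 h3 h4 h5 h6

theorem gen_one (hK : ∃ a a' : E, a ≠ 0 ∧ a ≠ 1 ∧ a' ≠ 0 ∧ a' ≠ 1 ∧ a ≠ a') :
    (∀ a, x2 a ∈ ⁅U, U⁆) ∧ (∀ a, x3 a ∈ ⁅U, U⁆) ∧ (∀ a, x4 a ∈ ⁅U, U⁆) ∧ (∀ a, x5 a ∈ ⁅U, U⁆) := by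
  have k4 : ∀ t, x4 t ∈ ⁅U, U⁆ := by
    intro t
    have := kk_mem (h2 t) (h6 1)
    rwa [R.c26 t 1 rfl rfl, mul_one] at this
  set f2 := av U x2 h2 with hf2
  set f3 := av U x3 h3 with hf3
  set f4 := av U x4 h4 with hf4
  set f5 := av U x5 h5 with hf5
  have z4 : ∀ t, f4 t = 0 := by
    intro t
    have h := k4 t
    rw [← Subgroup.map_subtype_commutator] at h
    obtain ⟨y, hy, e⟩ := h
    have e' : y = (⟨x4 t, h4 t⟩ : U) := Subtype.ext e
    rw [e', SetLike.mem_coe, ← Abelianization.ker_of] at hy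
    exact hy
  have a2 : ∀ a b, f2 (a + b) = f2 a + f2 b := by
    intro a b
    have : (⟨x2 (a + b), h2 (a + b)⟩ : U) = ⟨x2 a, h2 a⟩ * ⟨x2 b, h2 b⟩ := Subtype.ext (R.add2 a b rfl rfl)
    simp only [hf2, av, this, map_mul, ofMul_mul]
  have a3 : ∀ a b, f3 (a + b) = f3 a + f3 b := by
    intro a b
    have : (⟨x3 (a + b), h3 (a + b)⟩ : U) = ⟨x3 a, h3 a⟩ * ⟨x3 b, h3 b⟩ := Subtype.ext (R.add3 a b)
    simp only [hf3, av, this, map_mul, ofMul_mul]
  have a5 : ∀ a b, f5 (a + b) = f5 a + f5 b := by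
    intro a b
    have : (⟨x5 (a + b), h5 (a + b)⟩ : U) = ⟨x5 a, h5 a⟩ * ⟨x5 b, h5 b⟩ := Subtype.ext (R.add5 a b)
    simp only [hf5, av, this, map_mul, ofMul_mul]
  have key : ∀ a t, f2 (-(t * a ^ 3)) + f3 (t * a ^ 2) + f5 (-(t * a)) = 0 := by
    intro a t
    have e := R.c16 a t rfl
    have s1 : shp (RingEquiv.refl E) a = a ^ 2 := by simp [shp, pow_two]
    have s2 : nrm (RingEquiv.refl E) a = a ^ 3 := by simp [nrm]; ring
    rw [s1, s2] at e
    have e1 : (⟨x2 (-(t * a ^ 3)), h2 _⟩ * ⟨x3 (t * a ^ 2), h3 _⟩ * ⟨x4 (t ^ 2 * a ^ 3), h4 _⟩ *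
        ⟨x5 (-(t * a)), h5 _⟩ : U) = ⁅(⟨x1 a, h1 a⟩ : U)⁻¹, (⟨x6 t, h6 t⟩ : U)⁻¹⁆ := by
      apply Subtype.ext
      change x2 (-(t * a ^ 3)) * x3 (t * a ^ 2) * x4 (t ^ 2 * a ^ 3) * x5 (-(t * a)) =
        ⁅(x1 a)⁻¹, (x6 t)⁻¹⁆
      rw [← e, kk, commutatorElement_def, inv_inv, inv_inv]
    have e2 := congrArg (fun u : U => Additive.ofMul (Abelianization.of u)) e1
    simp only [map_mul, ofMul_mul, map_commutatorElement] at e2
    have e3 : ⁅Abelianization.of (⟨x1 a, h1 a⟩ : U)⁻¹, Abelianization.of (⟨x6 t, h6 t⟩ : U)⁻¹⁆ = 1 := by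
      rw [commutatorElement_eq_one_iff_mul_comm, mul_comm]
    rw [e3, ofMul_one] at e2
    have e4 : f2 (-(t * a ^ 3)) + f3 (t * a ^ 2) + f4 (t ^ 2 * a ^ 3) + f5 (-(t * a)) = 0 := e2
    rwa [z4, add_zero] at e4
  have n2 : ∀ a, f2 (-a) = -f2 a := by
    intro a
    have h := a2 (-a) a
    have h0 := a2 0 0
    rw [add_zero, left_eq_add] at h0
    rw [neg_add_cancel, h0] at h
    exact eq_neg_of_add_eq_zero_left h.symm
  have n5 : ∀ a, f5 (-a) = -f5 a := by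
    intro a
    have h := a5 (-a) a
    have h0 := a5 0 0
    rw [add_zero, left_eq_add] at h0
    rw [neg_add_cancel, h0] at h
    exact eq_neg_of_add_eq_zero_left h.symm
  have n3 : ∀ a, f3 (-a) = -f3 a := by
    intro a
    have h := a3 (-a) a
    have h0 := a3 0 0
    rw [add_zero, left_eq_add] at h0
    rw [neg_add_cancel, h0] at h
    exact eq_neg_of_add_eq_zero_left h.symm
  -- `f₂(c a²) = f₃(c a) - f₅(c)`
  have k1 : ∀ a c, a ≠ 0 → f2 (c * a ^ 2) = f3 (c * a) - f5 c := by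
    intro a c ha
    have h := key a (c / a)
    have e1 : c / a * a ^ 3 = c * a ^ 2 := by field_simp
    have e2 : c / a * a ^ 2 = c * a := by field_simp
    have e3 : c / a * a = c := by field_simp
    rw [e1, e2, e3, n2, n5] at h
    have h' : f3 (c * a) = f2 (c * a ^ 2) + f5 c := by
      have := h
      rw [add_assoc, neg_add_eq_zero] at this
      rw [this]; abel
    rw [h']; abel
  -- `f₂(d (a + 1)) = f₃(d)`
  have k2 : ∀ a d, a ≠ 0 → a ≠ 1 → f2 (d * (a + 1)) = f3 d := by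
    intro a d ha ha1
    have hs : a - 1 ≠ 0 := sub_ne_zero.2 ha1
    have e1 := k1 a (d / (a - 1)) ha
    have e2 := k1 1 (d / (a - 1)) one_ne_zero
    rw [one_pow, mul_one] at e2
    have e3 : d * (a + 1) = d / (a - 1) * a ^ 2 + -(d / (a - 1)) := by field_simp; ring
    have e4 : d = d / (a - 1) * a + -(d / (a - 1)) := by field_simp; ring
    have e5 : f3 d = f3 (d / (a - 1) * a) + -f3 (d / (a - 1)) := by
      conv_lhs => rw [e4]
      rw [a3, n3]
    rw [e3, a2, n2, e1, e2, e5]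
    abel
  obtain ⟨a, a', ha0, ha1, ha0', ha1', hne⟩ := hK
  have z2 : ∀ c, f2 c = 0 := by
    intro c
    have hs : a - a' ≠ 0 := sub_ne_zero.2 hne
    have e1 := k2 a (c / (a - a')) ha0 ha1
    have e2 := k2 a' (c / (a - a')) ha0' ha1'
    have e3 : c = c / (a - a') * (a + 1) + -(c / (a - a') * (a' + 1)) := by field_simp; ring
    rw [e3, a2, n2, e1, e2]
    abel
  have z3 : ∀ c, f3 c = 0 := by
    intro c
    rw [← k2 a c ha0 ha1, z2]
  have z5 : ∀ c, f5 c = 0 := by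
    intro c
    have h := k1 1 c one_ne_zero
    rw [z2, z3, zero_sub] at h
    exact neg_eq_zero.1 h.symm
  exact ⟨fun a => mem_of_av h2 (z2 a), fun a => mem_of_av h3 (z3 a), k4, fun a => mem_of_av h5 (z5 a)⟩

end one

section ne

variable (R : HexRel σ x1 x2 x3 x4 x5 x6) {U : Subgroup G}
include R

/-- **Generation in a hexagon, characteristic not 2, `σ ≠ 1`.** -/
theorem gen_ne (h2 : (2 : E) ≠ 0) (h1 : ∀ a, x1 a ∈ U) (h3 : ∀ a, x3 a ∈ U)
    (h5 : ∀ a, x5 a ∈ U) (h6 : ∀ t, σ t = t → x6 t ∈ U) (hB : ∃ B, σ B ≠ B) :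
    (∀ t, σ t = t → x2 t ∈ ⁅U, U⁆) ∧ (∀ a, x3 a ∈ ⁅U, U⁆) ∧ (∀ t, σ t = t → x4 t ∈ ⁅U, U⁆) ∧
      (∀ a, x5 a ∈ ⁅U, U⁆) := by
  have hcube := R.cube
  -- the trace is not zero
  obtain ⟨e, he⟩ : ∃ e : E, e + σ e + σ (σ e) ≠ 0 := by
    by_contra hcon
    push Not at hcon
    obtain ⟨B, hB⟩ := hB
    have k0 : ∀ a : E, (σ B - B) * σ a + (σ (σ B) - B) * σ (σ a) = 0 := by
      intro a
      have e1 := hcon a
      have e2 := hcon (B * a)
      rw [map_mul, map_mul] at e2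
      linear_combination e2 - B * e1
    have k1 := k0 1
    rw [map_one, map_one, mul_one, mul_one] at k1
    have k2 := k0 (σ (σ B))
    rw [hcube] at k2
    have hd : σ B - B ≠ 0 := sub_ne_zero.2 hB
    have k3 : (σ B - B) * (B - σ B) = 0 := by
      linear_combination k2 - (σ B) * k1
    rcases mul_eq_zero.1 k3 with h | h
    · exact hd h
    · exact hd (by rw [← neg_eq_zero]; linear_combination h)
  have htr : ∀ t, σ t = t → ∃ a, trc σ a 1 = t := by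
    intro t ht
    refine ⟨t / (e + σ e + σ (σ e)) * e, ?_⟩
    have hs : σ (e + σ e + σ (σ e)) = e + σ e + σ (σ e) := by
      rw [map_add, map_add, hcube]; ring
    have hs' : σ (t / (e + σ e + σ (σ e))) = t / (e + σ e + σ (σ e)) := by rw [map_div₀, ht, hs]
    have e1 : trc σ (t / (e + σ e + σ (σ e)) * e) 1 =
        t / (e + σ e + σ (σ e)) * (e + σ e + σ (σ e)) := by
      simp only [trc, map_mul, hs', map_one]
      ring
    rw [e1, div_mul_cancel₀ _ he]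
  have hft : ∀ a b : E, σ (trc σ a b) = trc σ a b := fun a b => by
    simp only [trc, map_add, map_mul, hcube]; ring
  have k2 : ∀ t, σ t = t → x2 t ∈ ⁅U, U⁆ := by
    intro t ht
    obtain ⟨a, rfl⟩ := htr t ht
    have := kk_mem (h1 a) (h3 1)
    rwa [R.c13] at this
  have k4 : ∀ t, σ t = t → x4 t ∈ ⁅U, U⁆ := by
    intro t ht
    obtain ⟨a, rfl⟩ := htr t ht
    have := kk_mem (h3 a) (h5 1)
    rwa [R.c35] at this
  have k3' : ∀ a b, x3 (crs σ a b) ∈ ⁅U, U⁆ := by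
    intro a b
    have := kk_mem (h1 a) (h5 b)
    rw [R.c15] at this
    have e2 := k2 (-(trc σ (shp σ a) b)) (by rw [map_neg, hft])
    have e4 := k4 (trc σ a (shp σ b)) (hft _ _)
    exact (Subgroup.mul_mem_cancel_left _ e2).1 ((Subgroup.mul_mem_cancel_right _ e4).1 this)
  have fn : ∀ a : E, σ (nrm σ a) = nrm σ a := fun a => by
    simp only [nrm, map_mul, hcube]; ring
  have k3 : ∀ a, x3 a ∈ ⁅U, U⁆ := by
    intro c
    by_cases hc : c = 0
    · have := k3' 0 0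
      rw [hc]
      simpa [crs] using this
    have hc1 : σ c ≠ 0 := (map_ne_zero σ).2 hc
    have hc2 : σ (σ c) ≠ 0 := (map_ne_zero σ).2 hc1
    have hn : nrm σ c ≠ 0 := by
      rw [nrm]
      exact mul_ne_zero (mul_ne_zero hc hc1) hc2
    have h := k3' ((2 * nrm σ c)⁻¹ * shp σ c) (shp σ c)
    have hs : σ ((2 * nrm σ c)⁻¹) = (2 * nrm σ c)⁻¹ := by
      rw [map_inv₀, map_mul, fn, map_ofNat]
    have e1 : crs σ ((2 * nrm σ c)⁻¹ * shp σ c) (shp σ c) = c := by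
      simp only [crs, map_mul, hs]
      have e2 : σ (shp σ c) = σ (σ c) * c := by rw [shp, map_mul, hcube]
      have e3 : σ (σ (shp σ c)) = c * σ c := by rw [e2, map_mul, hcube]
      rw [e3, e2]
      have e4 : (2 * nrm σ c)⁻¹ * (2 * nrm σ c) = 1 := inv_mul_cancel₀ (mul_ne_zero h2 hn)
      have e5 : nrm σ c = c * σ c * σ (σ c) := rfl
      rw [e5] at e4 ⊢
      linear_combination c * e4
    rwa [e1] at h
  refine ⟨k2, k3, k4, fun a => ?_⟩
  have := kk_mem (h1 (-a)) (h6 1 (map_one σ))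
  rw [R.c16 _ _ (map_one σ)] at this
  have e2 := k2 (-(1 * nrm σ (-a))) (by rw [map_neg, map_mul, map_one, fn])
  have e3 := k3 (1 * shp σ (-a))
  have e4 := k4 (1 ^ 2 * nrm σ (-a)) (by rw [map_mul, map_pow, map_one, fn])
  have e5 := (Subgroup.mul_mem_cancel_left _ (mul_mem (mul_mem e2 e3) e4)).1 this
  rwa [one_mul, neg_neg] at e5

end ne

end Cfsg.Agent.H396.HexGen
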