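import Mathlib
import Cfsg.Agent.H396.CommTab1
import Cfsg.Agent.H396.HexGen
import Cfsg.Agent.KFacts.RgdFiltClass
import Cfsg.Agent.Mrg.Omega.ML.Ex.Lie2.Main
import Cfsg.Agent.Mrg.Omega.EH3.Kf.TableAll
import Cfsg.Agent.Mrg.Omega.EH3.Kf.FamD4
import Cfsg.Agent.Hexagon.G2Par
import Cfsg.Agent.KFacts.RgdGraphF4

/-!
# `HasCG`: the remaining families (helper396)

`PSL_n(q)`, `n ≥ 3`, `PΩ⁺`, `E₆, E₇, E₈`, `F₄(q)`, `q ≥ 3`, `G₂(q)`, `q ≥ 4`, `³D₄(q)`, `²E₆(q)`.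
-/

set_option autoImplicit false
set_option linter.unusedSectionVars false

namespace Cfsg.Agent.H396.CommTab

open Cfsg
open CoxeterSystem Cfsg.Agent.ChevalleyStructure.CoxeterGeom Cfsg.Agent.Tits.Roots Cfsg.Agent.Tits.Core
open Cfsg.Agent.Nodes Cfsg.Agent.Nodes.BNOf Cfsg.Agent.Nodes.RGDLib Cfsg.Agent.Nodes.RGDChev
open Cfsg.Agent.Omega.EH3.Kf Cfsg.Agent.Omega.EH3.Kf.Lev
open scoped commutatorElement

/-! ### Simply laced diagrams -/

theorem hasCG_of_sl {p : ℕ} {G : Type*} [Group G] {l : ℕ} {M : CoxeterMatrix (Fin l)} {A : Fin l → Fin l → ℤ}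
    {h : IsCartan M A} {T : Subgroup G} {n : Fin l → G} {X : (Fin l → ℤ) → Subgroup G} (hl : 2 ≤ l)
    (hW : Finite M.Group) (R : RGD M.toCoxeterSystem h p T n X) (hX : G1 M.toCoxeterSystem h X = ⊤)
    (h4 : ∀ i j, M i j ≠ 4) (h6 : ∀ i j, M i j ≠ 6) (hc : Conn M) : HasCG p G :=
  ⟨l, M, A, h, T, n, X, hl, hW, R, hX,
    comm_of_sl R (Cfsg.Agent.KFacts.RgdFiltWitt.sl_of_ne h4 h6), hc⟩

theorem hasCG_PSL {F : Type*} [Field F] [Finite F] (n : ℕ) (hn : 2 ≤ n) {p : ℕ} [Fact p.Prime] [CharP F p] :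
    HasCG p (Matrix.ProjectiveSpecialLinearGroup (Fin (n + 1)) F) := by
  have hc : ∀ i j : Fin n, Cfsg.Agent.LieRecognition.BNCox.cA n i j ≤ 3 := by
    intro i j
    rw [Cfsg.Agent.LieRecognition.BNCox.cA_apply]
    show (if (i : ℕ) = j then 1 else if (i : ℕ) + 1 = j ∨ (j : ℕ) + 1 = i then 3 else 2) ≤ 3
    split_ifs <;> norm_num
  have hW : Finite (Cfsg.Agent.LieRecognition.BNCox.cA n).Group :=
    Nodes.RootsA.finite_W (Cfsg.Agent.LieRecognition.BNCox.cA n).toCoxeterSystem (Nodes.RootsA.isCartan n)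
  exact hasCG_of_sl (h := Nodes.RootsA.isCartan n) hn hW (Nodes.RGDTypeA.rgd_psl _ _)
    (Nodes.RGDTypeA.G1_psl_eq_top _ _)
    (fun i j h => by have := hc i j; omega) (fun i j h => by have := hc i j; omega)
    (Nodes.Chart.Ty.irrA n (by omega))

section Plus

open QuadraticMap
open Cfsg.Agent.LieClassical Cfsg.Agent.LieClassical.OrthCore Cfsg.Agent.LieClassical.OrthTrans
open Cfsg.Agent.LieClassical.OrthSimple Cfsg.Agent.LieClassical.OrthFinite
open Cfsg.Agent.LieClassical.OrthForms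
open Cfsg.Agent.TitsThree.WBridge Cfsg.Agent.TitsThree.KSideO Cfsg.Agent.TitsThree.StdData
open Cfsg.Agent.Nodes.WittU Cfsg.Agent.Nodes.WittInst

theorem hasCG_PO_plus {F : Type*} [Field F] [Finite F] (n : ℕ) {p : ℕ} [Fact p.Prime] [CharP F p] :
    HasCG p (Cfsg.POmega F (Cfsg.quadFormPlus (n + 3) F)) := by
  rw [← coe_plusForm]
  have hG : Good (plusForm (n + 3) F) := by
    apply good_of_finite (nondeg_plusForm (n + 3) F)
    rw [Module.finrank_fintype_fun_eq_card, Fintype.card_sum, Fintype.card_fin]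
    omega
  have hc : ∀ i j : Fin (n + 1 + 2), Nodes.TypeD.M (n + 1) i j ≤ 3 := by
    intro i j
    show (if i = j then 1 else if Nodes.TypeD.Adj i j ∨ Nodes.TypeD.Adj j i then 3 else 2) ≤ 3
    split_ifs <;> norm_num
  exact hasCG_of_sl (by omega) (Nodes.TypeD.finite_W (Nodes.TypeD.M (n + 1)).toCoxeterSystem)
    (rgdD_model (wplus (n + 3) F) hG (amb_plus _) (adm_plus _) _)
    (G1D_eq_top (wplus (n + 3) F) (toPOmega hG) (toPOmega_surjective hG) (adm_plus _) _)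
    (fun i j h => by have := hc i j; omega) (fun i j h => by have := hc i j; omega)
    (Nodes.Chart.Ty.irrD (n + 1) (by omega))

end Plus

section Chev

open Cfsg.Lie

universe u

theorem hasCG_group {D : ChevalleyDatum} {l : ℕ} {M : CoxeterMatrix (Fin l)} (hp : IsType D l M) (K : Type u)
    [Field K] [Finite K] (p : ℕ) [CharP K p] (hl : 2 ≤ l) (h4 : ∀ i j, M i j ≠ 4) (h6 : ∀ i j, M i j ≠ 6)
    (hc : Conn M) : HasCG p ↥(D.group K) := by
  have : Fact p.Prime := ⟨CharP.char_is_prime K p⟩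
  exact hasCG_of_sl hl (finite_W hp M.toCoxeterSystem) (rgd (K := K) hp M.toCoxeterSystem p) (G1_eq_top hp _) h4 h6 hc

set_option backward.isDefEq.respectTransparency false in
theorem lab_E6 : ∀ i j, CoxeterMatrix.E₆ i j ≠ 4 ∧ CoxeterMatrix.E₆ i j ≠ 6 := by decide +kernel
set_option backward.isDefEq.respectTransparency false in
theorem lab_E7 : ∀ i j, CoxeterMatrix.E₇ i j ≠ 4 ∧ CoxeterMatrix.E₇ i j ≠ 6 := by decide +kernel
set_option backward.isDefEq.respectTransparency false in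
theorem lab_E8 : ∀ i j, CoxeterMatrix.E₈ i j ≠ 4 ∧ CoxeterMatrix.E₈ i j ≠ 6 := by decide +kernel

theorem hasCG_E6 (K : Type u) [Field K] [Finite K] (p : ℕ) [CharP K p] : HasCG p ↥(chevE6.group K) :=
  hasCG_group (l := 6) (M := CoxeterMatrix.E₆) (by simp [IsType, typeList]) K p (by norm_num)
    (fun i j => (lab_E6 i j).1) (fun i j => (lab_E6 i j).2) (Nodes.Chart.Ty.irr .E6 trivial)

theorem hasCG_E7 (K : Type u) [Field K] [Finite K] (p : ℕ) [CharP K p] : HasCG p ↥(chevE7.group K) :=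
  hasCG_group (l := 7) (M := CoxeterMatrix.E₇) (by simp [IsType, typeList]) K p (by norm_num)
    (fun i j => (lab_E7 i j).1) (fun i j => (lab_E7 i j).2) (Nodes.Chart.Ty.irr .E7 trivial)

theorem hasCG_E8 (K : Type u) [Field K] [Finite K] (p : ℕ) [CharP K p] : HasCG p ↥(chevE8.group K) :=
  hasCG_group (l := 8) (M := CoxeterMatrix.E₈) (by simp [IsType, typeList]) K p (by norm_num)
    (fun i j => (lab_E8 i j).1) (fun i j => (lab_E8 i j).2) (Nodes.Chart.Ty.irr .E8 trivial)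

theorem hasCG_F4 (K : Type u) [Field K] [Finite K] (p : ℕ) [CharP K p] (hK : ∃ c : K, c ≠ 0 ∧ c ≠ 1) :
    HasCG p ↥(chevF4.group K) := by
  have : Fact p.Prime := ⟨CharP.char_is_prime K p⟩
  have hp := Omega.ML.Ex.Lie2.DatF4.isType_F4
  exact ⟨4, CoxeterMatrix.F₄, _, hp.isCartan, _, _, _, by norm_num, finite_W hp CoxeterMatrix.F₄.toCoxeterSystem,
    rgd (K := K) hp CoxeterMatrix.F₄.toCoxeterSystem p, G1_eq_top hp _,
    Omega.ML.Ex.Lie2.DatF4.commGen_F4 hK, Nodes.Chart.Ty.irr .F4 trivial⟩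

end Chev

/-! ### `G₂(q)` -/

section G2

open Cfsg.Lie Cfsg.Agent.ChevalleyStructure Cfsg.Agent.ChevalleyStructure.Elts
open Cfsg.Agent.Hexagon.G2Par Cfsg.Agent.Hexagon.G2Rel

universe u

variable (K : Type u) [Field K]

theorem xG_eq (r : ℕ) (t : K) : (Cfsg.Agent.ChevalleyStructure.G2N.xG r t : GL chevG2.Idx K) =
    xG FamG2.isType.inList r t := Units.ext rfl

theorem commGen_G2 (hK : ∃ a a' : K, a ≠ 0 ∧ a ≠ 1 ∧ a' ≠ 0 ∧ a' ≠ 1 ∧ a ≠ a') :
    CommGen CoxeterMatrix.G₂.toCoxeterSystem FamG2.isType.isCartan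
      (fun x => (XV chevG2 2 K x).subgroupOf (chevG2.group K)) := by
  set X : (Fin 2 → ℤ) → Subgroup ↥(chevG2.group K) := fun x => (XV chevG2 2 K x).subgroupOf (chevG2.group K) with hX
  set U := RGD.Sup X (RGD.Pos CoxeterMatrix.G₂.toCoxeterSystem FamG2.isType.isCartan) with hU
  have hmem : ∀ {r : ℕ}, r < 12 → (r = 6 ∨ r = 7 ∨ r = 8 ∨ r = 9 ∨ r = 10 ∨ r = 11) →
      ∀ g : ↥(chevG2.group K), (∃ t, (g : GL chevG2.Idx K) = Cfsg.Agent.ChevalleyStructure.G2N.xG r t) → g ∈ U := by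
    intro r hr h g hg
    have hx : vec chevG2 2 r ∈ RGD.Pos CoxeterMatrix.G₂.toCoxeterSystem FamG2.isType.isCartan :=
      ⟨isRoot_vec FamG2.isType CoxeterMatrix.G₂.toCoxeterSystem hr, fun k => FamG2.pos_tab' r hr h k⟩
    refine RGD.le_Sup (X := X) hx ((Omega.EH3.Kf.FamChev.mem_X_iff FamG2.isType hr).2 ?_)
    obtain ⟨t, ht⟩ := hg
    exact ⟨t, by rw [ht, xG_eq]⟩
  obtain ⟨g2, g3, g4, g5⟩ := HexGen.gen_one (hexRel' (K := K)) (U := U)
    (fun a => hmem (r := 7) (by norm_num) (by norm_num) _ ⟨_, rfl⟩)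
    (fun a => hmem (r := 10) (by norm_num) (by norm_num) _ ⟨_, rfl⟩)
    (fun a => hmem (r := 9) (by norm_num) (by norm_num) _ ⟨_, rfl⟩)
    (fun a => hmem (r := 11) (by norm_num) (by norm_num) _ ⟨_, rfl⟩)
    (fun a => hmem (r := 8) (by norm_num) (by norm_num) _ ⟨_, rfl⟩)
    (fun a => hmem (r := 6) (by norm_num) (by norm_num) _ ⟨_, rfl⟩) hK
  intro x hx h0 hs
  obtain ⟨r, hr, rfl⟩ := (Nodes.RGDChev.isRoot_iff FamG2.isType _ _).1 hx
  have h1 := FamG2.pos_tab r hr (fun k => h0 k)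
  have h2 : r = 8 ∨ r = 9 ∨ r = 10 ∨ r = 11 := by
    rcases h1 with rfl | rfl | h1
    · exact absurd FamG2.vec6 (hs 1)
    · exact absurd FamG2.vec7 (hs 0)
    · exact h1
  intro g hg
  obtain ⟨t, ht⟩ := (Omega.EH3.Kf.FamChev.mem_X_iff FamG2.isType hr).1 hg
  rcases h2 with rfl | rfl | rfl | rfl
  · have e : g = y5 t := Subtype.ext (by rw [ht, ← xG_eq]; rfl)
    rw [e]; exact g5 t
  · have e : g = y3 (-t) := Subtype.ext (by
      rw [ht, ← xG_eq]
      change _ = Cfsg.Agent.ChevalleyStructure.G2N.xG 9 (- -t)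
      rw [neg_neg])
    rw [e]; exact g3 (-t)
  · have e : g = y2 (-t) := Subtype.ext (by
      rw [ht, ← xG_eq]
      change _ = Cfsg.Agent.ChevalleyStructure.G2N.xG 10 (- -t)
      rw [neg_neg])
    rw [e]; exact g2 (-t)
  · have e : g = y4 t := Subtype.ext (by rw [ht, ← xG_eq]; rfl)
    rw [e]; exact g4 t

theorem hasCG_G2 [Finite K] (p : ℕ) [CharP K p]
    (hK : ∃ a a' : K, a ≠ 0 ∧ a ≠ 1 ∧ a' ≠ 0 ∧ a' ≠ 1 ∧ a ≠ a') : HasCG p ↥(chevG2.group K) := by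
  have : Fact p.Prime := ⟨CharP.char_is_prime K p⟩
  have hp := FamG2.isType
  exact ⟨2, CoxeterMatrix.G₂, _, hp.isCartan, _, _, _, le_rfl, finite_W hp CoxeterMatrix.G₂.toCoxeterSystem,
    rgd (K := K) hp CoxeterMatrix.G₂.toCoxeterSystem p, G1_eq_top hp _, commGen_G2 K hK,
    Nodes.Chart.Ty.irr .G2 trivial⟩

end G2

end Cfsg.Agent.H396.CommTab
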