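import Mathlib
import Cfsg.Agent.H396.CommTab3
import Cfsg.Prelude.Def_LieTypeChar

/-!
# The table of the groups with `HasCG` (helper396)

`HasCG p G`: `G` has an RGD system of rank `≥ 2`, connected diagram, in characteristic `p`, with the root groups of
the non-simple positive roots inside `[U, U]`.
-/

set_option autoImplicit false

namespace Cfsg.Agent.H396.CommTab

open Cfsg

/-- Lie type groups without `HasCG`: rank one, `²F₄(q)`, `Sp_{2m}(2)`, `G₂(3)`, `F₄(2)`. -/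
def Exc (p : ℕ) (G : Type*) [Group G] : Prop :=
  (∃ (F : Type) (_ : Field F) (_ : Fintype F) (_ : CharP F p), 4 ≤ Fintype.card F ∧
    Nonempty (G ≃* Matrix.ProjectiveSpecialLinearGroup (Fin 2) F)) ∨
  (∃ (F : Type) (_ : Field F) (_ : Fintype F) (_ : CharP F p) (q : ℕ), Fintype.card F = q ^ 2 ∧ q ≠ 2 ∧
    Nonempty (G ≃* PSU 3 F q)) ∨
  (p = 2 ∧ Lie.IsoSuzuki G) ∨ (p = 3 ∧ Lie.IsoRee G) ∨ (p = 2 ∧ Lie.Iso2F4 G) ∨
  (p = 2 ∧ ∃ (F : Type) (_ : Field F) (_ : Fintype F) (m : ℕ), Fintype.card F = 2 ∧ 3 ≤ m ∧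
    Nonempty (G ≃* PSp m F)) ∨
  (p = 3 ∧ ∃ (F : Type) (_ : Field F) (_ : Fintype F), Fintype.card F = 3 ∧ Nonempty (G ≃* Lie.chevG2.group F)) ∨
  (p = 2 ∧ ∃ (F : Type) (_ : Field F) (_ : Fintype F), Fintype.card F = 2 ∧ Nonempty (G ≃* Lie.chevF4.group F))

theorem char_eq_of_card {F : Type*} [Field F] [Fintype F] {p r : ℕ} [CharP F p] (hr : r.Prime)
    (h : Fintype.card F = r) : p = r := by
  have hp : p.Prime := CharP.char_is_prime F p
  obtain ⟨n, -, hn⟩ := FiniteField.card F p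
  rw [h] at hn
  have h1 : r ∣ p := hr.dvd_of_dvd_pow (n := n) (by rw [← hn])
  exact ((Nat.prime_dvd_prime_iff_eq hr hp).1 h1).symm

theorem table {p : ℕ} {G : Type*} [Group G] (h : IsLieTypeChar p G) : HasCG p G ∨ Exc p G := by
  rcases h with ⟨F, i1, i2, i3, n, hn, hn2, ⟨e⟩⟩ | ⟨F, i1, i2, i3, m, hm, hm2, ⟨e⟩⟩ |
    ⟨F, i1, i2, i3, n, q, hF, hn, hn2, ⟨e⟩⟩ | ⟨F, i1, i2, i3, m, hm, hodd, ⟨e⟩⟩ |
    ⟨F, i1, i2, i3, m, hm, ⟨e⟩⟩ | ⟨F, i1, i2, i3, m, a, b, hm, hab, ⟨e⟩⟩ |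
    ⟨F, i1, i2, i3, h⟩ | ⟨F, i1, i2, i3, q, hq, h⟩ | h | h | h
  · have : Fact p.Prime := ⟨CharP.char_is_prime F p⟩
    rcases Nat.lt_or_ge 2 n with h3 | h3
    · obtain ⟨k, rfl⟩ : ∃ k, n = k + 1 := ⟨n - 1, by omega⟩
      exact Or.inl ((hasCG_PSL k (by omega)).of_equiv e.symm)
    · obtain rfl : n = 2 := by omega
      exact Or.inr (Or.inl ⟨F, i1, i2, i3, hn2 rfl, ⟨e⟩⟩)
  · have : Fact p.Prime := ⟨CharP.char_is_prime F p⟩
    rcases Nat.lt_or_ge 2 (Fintype.card F) with h3 | h3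
    · exact Or.inl ((hasCG_PSp hm h3).of_equiv e.symm)
    · have h4 : Fintype.card F = 2 := le_antisymm h3 Fintype.one_lt_card
      exact Or.inr (Or.inr (Or.inr (Or.inr (Or.inr (Or.inr (Or.inl
        ⟨char_eq_of_card Nat.prime_two h4, F, i1, i2, m, h4, by
          by_contra h5
          have := hm2 (by omega)
          omega, ⟨e⟩⟩))))))
  · have : Fact p.Prime := ⟨CharP.char_is_prime F p⟩
    rcases Nat.lt_or_ge 3 n with h3 | h3
    · exact Or.inl ((hasCG_PSU hF h3).of_equiv e.symm)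
    · obtain rfl : n = 3 := by omega
      exact Or.inr (Or.inr (Or.inl ⟨F, i1, i2, i3, q, hF, fun h => hn2 ⟨rfl, h⟩, ⟨e⟩⟩))
  · have : Fact p.Prime := ⟨CharP.char_is_prime F p⟩
    have h2 : (2 : F) ≠ 0 := by
      intro h0
      have h4 : CharP F 2 := CharTwo.of_one_ne_zero_of_two_eq_zero one_ne_zero h0
      have h5 : Even (Fintype.card F) := by
        rw [Nat.even_iff]
        exact FiniteField.even_card_of_char_two (ringChar.eq F 2)
      exact (Nat.not_even_iff_odd.2 hodd) h5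
    exact Or.inl ((hasCG_PO_odd h2 (by omega)).of_equiv e.symm)
  · have : Fact p.Prime := ⟨CharP.char_is_prime F p⟩
    obtain ⟨k, rfl⟩ : ∃ k, m = k + 3 := ⟨m - 3, by omega⟩
    exact Or.inl ((hasCG_PO_plus k).of_equiv e.symm)
  · have : Fact p.Prime := ⟨CharP.char_is_prime F p⟩
    exact Or.inl ((hasCG_PO_minus a b hab (by omega)).of_equiv e.symm)
  · rcases h with ⟨h3, ⟨e⟩⟩ | ⟨⟨e⟩⟩ | ⟨⟨e⟩⟩ | ⟨⟨e⟩⟩ | ⟨⟨e⟩⟩
    · rcases Nat.lt_or_ge 3 (Fintype.card F) with h4 | h4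
      · refine Or.inl ((hasCG_G2 F p ?_).of_equiv e.symm)
        classical
        have h5 : 2 < Fintype.card Fˣ := by rw [Fintype.card_units]; omega
        obtain ⟨x, y, z, h6, h7, h8⟩ := Fintype.two_lt_card_iff.1 h5
        by_cases hx : x = 1
        · subst hx
          exact ⟨y, z, y.ne_zero, fun h => h6 (Units.ext h.symm), z.ne_zero, fun h => h7 (Units.ext h.symm),
            fun h => h8 (Units.ext h)⟩
        · by_cases hy : y = 1
          · subst hy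
            exact ⟨x, z, x.ne_zero, fun h => hx (Units.ext h), z.ne_zero, fun h => h8 (Units.ext h.symm),
              fun h => h7 (Units.ext h)⟩
          · exact ⟨x, y, x.ne_zero, fun h => hx (Units.ext h), y.ne_zero, fun h => hy (Units.ext h),
              fun h => h6 (Units.ext h)⟩
      · have h5 : Fintype.card F = 3 := le_antisymm h4 h3
        exact Or.inr (Or.inr (Or.inr (Or.inr (Or.inr (Or.inr (Or.inr (Or.inl
          ⟨char_eq_of_card Nat.prime_three h5, F, i1, i2, h5, ⟨e⟩⟩)))))))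
    · rcases Nat.lt_or_ge 2 (Fintype.card F) with h3 | h3
      · exact Or.inl ((hasCG_F4 F p (exists_ne h3)).of_equiv e.symm)
      · have h4 : Fintype.card F = 2 := le_antisymm h3 Fintype.one_lt_card
        exact Or.inr (Or.inr (Or.inr (Or.inr (Or.inr (Or.inr (Or.inr (Or.inr
          ⟨char_eq_of_card Nat.prime_two h4, F, i1, i2, h4, ⟨e⟩⟩)))))))
    · exact Or.inl ((hasCG_E6 F p).of_equiv e.symm)
    · exact Or.inl ((hasCG_E7 F p).of_equiv e.symm)
    · exact Or.inl ((hasCG_E8 F p).of_equiv e.symm)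
  · rcases h with ⟨hK, ⟨e⟩⟩ | ⟨hK, ⟨e⟩⟩
    · exact Or.inl ((hasCG_twE6 hq hK p).of_equiv e.symm)
    · exact Or.inl ((hasCG_D4 hq hK p).of_equiv e.symm)
  · exact Or.inr (Or.inr (Or.inr (Or.inl h)))
  · exact Or.inr (Or.inr (Or.inr (Or.inr (Or.inr (Or.inl h)))))
  · exact Or.inr (Or.inr (Or.inr (Or.inr (Or.inl h))))

end Cfsg.Agent.H396.CommTab
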