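import Mathlib

set_option autoImplicit false

namespace Cfsg.Agent.H396

/-- There is an element of prime order none of whose automorphic images lies in `H`. -/
def Der (T : Type*) [Group T] (H : Subgroup T) : Prop :=
  ∃ g : T, (orderOf g).Prime ∧ ∀ φ : T ≃* T, φ g ∉ H

theorem Der.mono {T : Type*} [Group T] {H K : Subgroup T} (h : Der T K) (hHK : H ≤ K) : Der T H := by
  obtain ⟨g, hg, hφ⟩ := h
  exact ⟨g, hg, fun φ hm => hφ φ (hHK hm)⟩

theorem der_of_prime {T : Type*} [Group T] [Finite T] {H : Subgroup T} {v : ℕ} (hv : v.Prime)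
    (h1 : v ∣ Nat.card T) (h2 : ¬ v ∣ Nat.card H) : Der T H := by
  haveI := Fact.mk hv
  obtain ⟨g, hg⟩ := exists_prime_orderOf_dvd_card' v h1
  refine ⟨g, hg ▸ hv, fun φ hm => h2 ?_⟩
  have h3 : orderOf (⟨φ g, hm⟩ : H) = v := by
    rw [← orderOf_injective H.subtype H.subtype_injective]
    simpa using (orderOf_injective φ.toMonoidHom φ.injective g).trans hg
  rw [← h3]
  exact orderOf_dvd_natCard _

theorem Der.map {T S : Type*} [Group T] [Group S] {H : Subgroup T} (e : T ≃* S) (h : Der T H) :
    Der S (H.map e.toMonoidHom) := by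
  obtain ⟨g, hg, hφ⟩ := h
  refine ⟨e g, ?_, fun φ hm => ?_⟩
  · rw [show orderOf (e g) = orderOf g from orderOf_injective e.toMonoidHom e.injective g]
    exact hg
  · obtain ⟨x, hx, hxe⟩ := hm
    refine hφ ((e.trans φ).trans e.symm) ?_
    have : (e.symm (φ (e g)) : T) = x := by
      rw [← hxe]; exact e.symm_apply_apply x
    simpa [this] using hx

/-- squarefree index subgroups have derangements of prime order, up to automorphisms, except `A6`. -/
def SQ (T : Type*) [Group T] : Prop :=
  ∀ M : Subgroup T, M ≠ ⊤ → Squarefree M.index →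
    Der T M ∨ (Nonempty (T ≃* alternatingGroup (Fin 6)) ∧ M.index = 6)

/-- the same for maximal subgroups. -/
def SQMax (T : Type*) [Group T] : Prop :=
  ∀ M : Subgroup T, IsCoatom M → Squarefree M.index →
    Der T M ∨ (Nonempty (T ≃* alternatingGroup (Fin 6)) ∧ M.index = 6)

theorem Der.congr {T S : Type*} [Group T] [Group S] {K : Subgroup S} (e : T ≃* S)
    (h : Der T (K.comap e.toMonoidHom)) : Der S K := by
  have h2 := h.map e
  rwa [Subgroup.map_comap_eq_self_of_surjective (f := e.toMonoidHom) e.surjective] at h2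

theorem SQMax.congr {T S : Type*} [Group T] [Group S] (e : T ≃* S) (h : SQMax T) : SQMax S := by
  intro M hM hsq
  have hidx : (M.comap e.toMonoidHom).index = M.index :=
    Subgroup.index_comap_of_surjective M e.surjective
  have hco : IsCoatom (M.comap e.toMonoidHom) := by
    refine ⟨fun ht => hM.1 ?_, fun K hK => ?_⟩
    · rw [eq_top_iff]
      intro x _
      have : e.symm x ∈ M.comap e.toMonoidHom := by rw [ht]; trivial
      simpa using this
    · have h1 : M < K.map e.toMonoidHom := by
        refine lt_of_le_of_ne ?_ ?_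
        · intro x hx
          refine ⟨e.symm x, hK.le ?_, by simp⟩
          simpa using hx
        · intro heq
          refine hK.not_ge fun x hx => ?_
          change e x ∈ M
          rw [heq]
          exact ⟨x, hx, rfl⟩
      have h2 := hM.2 _ h1
      rw [eq_top_iff]
      intro x _
      have : e x ∈ K.map e.toMonoidHom := by rw [h2]; trivial
      obtain ⟨y, hy, hyx⟩ := this
      have : y = x := e.injective hyx
      rwa [← this]
  rcases h _ hco (by rwa [hidx]) with h1 | ⟨⟨f⟩, h2⟩
  · exact Or.inl (h1.congr e)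
  · exact Or.inr ⟨⟨e.symm.trans f⟩, by rwa [← hidx]⟩

theorem sq_of_sqMax {T : Type*} [Group T] [Finite T] (h : SQMax T) : SQ T := by
  intro M hM hsq
  obtain ⟨K, hK, hMK⟩ := (eq_top_or_exists_le_coatom M).resolve_left hM
  have hdvd : K.index ∣ M.index := Subgroup.index_dvd_of_le hMK
  rcases h K hK (hsq.squarefree_of_dvd hdvd) with h1 | ⟨hA, h2⟩
  · exact Or.inl (h1.mono hMK)
  · by_cases hMeq : M.index = 6
    · exact Or.inr ⟨hA, hMeq⟩
    left
    have hcard : Nat.card T = 360 := by
      obtain ⟨e⟩ := hA
      rw [Nat.card_congr e.toEquiv, Nat.card_eq_fintype_card]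
      have h2 := two_mul_card_alternatingGroup (α := Fin 6)
      rw [Fintype.card_perm, Fintype.card_fin] at h2
      have h3 : Nat.factorial 6 = 720 := by decide
      omega
    have hmul : Nat.card M * M.index = 360 := by rw [← hcard]; exact Subgroup.card_mul_index M
    obtain ⟨c, hc⟩ := hdvd
    rw [h2] at hc
    -- `c` is coprime to 6, `c ∣ 60`, `c ≠ 1`
    have hc0 : c ≠ 1 := by rintro rfl; exact hMeq (by omega)
    have hcd : c ∣ 60 := ⟨Nat.card M, by rw [hc] at hmul; nlinarith⟩
    have h2c : ¬ 2 ∣ c := by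
      rintro ⟨d, rfl⟩
      have : (2 * 2) ∣ M.index := ⟨3 * d, by rw [hc]; ring⟩
      have := hsq 2 this
      simp at this
    have h3c : ¬ 3 ∣ c := by
      rintro ⟨d, rfl⟩
      have : (3 * 3) ∣ M.index := ⟨2 * d, by rw [hc]; ring⟩
      have := hsq 3 this
      simp at this
    have hc5 : c = 5 := by
      have hle : c ≤ 60 := Nat.le_of_dvd (by norm_num) hcd
      interval_cases c <;> omega
    subst hc5
    have hM12 : Nat.card M = 12 := by rw [hc] at hmul; omega
    exact der_of_prime (v := 5) (by norm_num) (by rw [hcard]; norm_num) (by rw [hM12]; norm_num)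

end Cfsg.Agent.H396
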