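import Mathlib
import Cfsg.Agent.H396.CommTab2
import Cfsg.Agent.H396.ParX

/-!
# `F₄(q)`, every field: the exceptional pair of nodes, `Par` (helper396)
-/

set_option autoImplicit false
set_option linter.unusedSectionVars false

namespace Cfsg.Agent.H396.ParF4

open Cfsg Cfsg.Lie
open Subgroup CoxeterSystem Cfsg.Agent.ChevalleyStructure.CoxeterGeom Cfsg.Agent.Tits.Roots Cfsg.Agent.Tits.Core
  Cfsg.Agent.Tits.Exchange Cfsg.Agent.Nodes.Reps Cfsg.Agent.Nodes.BNOf Cfsg.Agent.Nodes.StabComb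
  Cfsg.Agent.Nodes.Bruhat Cfsg.Agent.Nodes.RGDLib Cfsg.Agent.Omega.EH3.Kf.Lev
open Cfsg.Agent.ChevalleyStructure Cfsg.Agent.ChevalleyStructure.Elts
  Cfsg.Agent.ChevalleyStructure.RootVec Cfsg.Agent.ChevalleyStructure.RootVecTab
  Cfsg.Agent.ChevalleyStructure.NPerm Cfsg.Agent.ChevalleyStructure.CoxeterGeomTypes
open Cfsg.Agent.Nodes Cfsg.Agent.Nodes.RGDChev
open Cfsg.Agent.Omega.ML.Ex.Lie2.DatF4

universe u

section terms

variable {D : ChevalleyDatum} {l : ℕ} {M : CoxeterMatrix (Fin l)} (hp : IsType D l M) {K : Type u} [Field K]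

include hp

/-- two terms: the first one from the second one -/
theorem a_of_b {r s a b : ℕ} {C C' : ℤ} {i j : ℕ} (hr : r < D.nroots) (hs : s < D.nroots) (hrs : s ≠ r)
    (hneg : s ≠ D.neg r) (h : D.commTerms r s = [(a, C, 1, 1), (b, C', i, j)]) (hC : C = 1 ∨ C = -1)
    {H Q : Subgroup (GL D.Idx K)} (hr' : D.rootSubgroup K r ≤ H) (hs' : D.rootSubgroup K s ≤ H) (hQ : ⁅H, H⁆ ≤ Q)
    (hb : D.rootSubgroup K b ≤ Q) : D.rootSubgroup K a ≤ Q := by
  intro g hg
  rw [mem_rootSubgroup_iff hp.inList] at hg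
  obtain ⟨v, rfl⟩ := hg
  have h1 := hQ (word_mem hp hr hs hrs hneg h hr' hs' 1 ((C : K) * v))
  rw [one_mul, ← mul_assoc, sgn_mul hC, one_mul] at h1
  exact (mul_mem_cancel_right (hb (xG_mem_rootSubgroup hp.inList b _))).1 h1

/-- two terms: the second one from the first one -/
theorem b_of_a {r s a b : ℕ} {C C' : ℤ} {i j : ℕ} (hr : r < D.nroots) (hs : s < D.nroots) (hrs : s ≠ r)
    (hneg : s ≠ D.neg r) (h : D.commTerms r s = [(a, C, 1, 1), (b, C', i, j)]) (hC' : C' = 1 ∨ C' = -1)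
    (hij : (i = 1 ∧ j = 2) ∨ (i = 2 ∧ j = 1))
    {H Q : Subgroup (GL D.Idx K)} (hr' : D.rootSubgroup K r ≤ H) (hs' : D.rootSubgroup K s ≤ H) (hQ : ⁅H, H⁆ ≤ Q)
    (ha : D.rootSubgroup K a ≤ Q) : D.rootSubgroup K b ≤ Q := by
  intro g hg
  rw [mem_rootSubgroup_iff hp.inList] at hg
  obtain ⟨v, rfl⟩ := hg
  have hCC := sgn_mul (K := K) hC'
  rcases hij with ⟨rfl, rfl⟩ | ⟨rfl, rfl⟩
  · have h1 := hQ (word_mem hp hr hs hrs hneg h hr' hs' ((C' : K) * v) 1)
    have e : (C' : K) * (((C' : K) * v) ^ 1 * 1 ^ 2) = v := by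
      rw [pow_one, one_pow, mul_one, ← mul_assoc, hCC, one_mul]
    rw [e] at h1
    exact (mul_mem_cancel_left (ha (xG_mem_rootSubgroup hp.inList a _))).1 h1
  · have h1 := hQ (word_mem hp hr hs hrs hneg h hr' hs' 1 ((C' : K) * v))
    have e : (C' : K) * (1 ^ 2 * ((C' : K) * v) ^ 1) = v := by
      rw [pow_one, one_pow, one_mul, ← mul_assoc, hCC, one_mul]
    rw [e] at h1
    exact (mul_mem_cancel_left (ha (xG_mem_rootSubgroup hp.inList a _))).1 h1

end terms

/-- `X_q` is the commutator of `X_r` and `X_s` -/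
def good1 (D : ChevalleyDatum) (q r s : ℕ) : Bool :=
  decide (s ≠ r) && decide (s ≠ D.neg r) && (decide (D.commTerms r s = [(q, 1, 1, 1)]) ||
    decide (D.commTerms r s = [(q, -1, 1, 1)]))

/-- pairs with one term -/
def tab1 : ℕ → ℕ × ℕ
  | 26 => (24, 25)
  | 31 => (24, 30)
  | 32 => (25, 31)
  | 34 => (27, 33)
  | 35 => (28, 33)
  | 36 => (29, 33)
  | 37 => (27, 35)
  | 38 => (27, 36)
  | 39 => (28, 36)
  | 40 => (27, 39)
  | 42 => (24, 41)
  | 43 => (25, 42)
  | 44 => (33, 40)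
  | 45 => (30, 42)
  | 46 => (25, 45)
  | 47 => (24, 46)
  | _ => (0, 0)

theorem tab1_F4 : ∀ q : Fin 48, (∀ i : Fin 4, 0 ≤ rt chevF4 q i) → (∀ i : Fin 4, (q : ℕ) ≠ chevF4.simple i) →
    (q : ℕ) ≠ 28 → (q : ℕ) ≠ 29 → (q : ℕ) ≠ 30 → (q : ℕ) ≠ 41 →
    (tab1 q).1 < 48 ∧ (tab1 q).2 < 48 ∧ (∀ i : Fin 4, 0 ≤ rt chevF4 (tab1 q).1 i) ∧
      (∀ i : Fin 4, 0 ≤ rt chevF4 (tab1 q).2 i) ∧ good1 chevF4 q (tab1 q).1 (tab1 q).2 = true := by
  decide +kernel

theorem pos_F4 : ∀ q : Fin 48, 24 ≤ (q : ℕ) → ∀ i : Fin 4, 0 ≤ rt chevF4 q i := by decide +kernel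

theorem terms_27_25 : chevF4.commTerms 27 25 = [(28, -1, 1, 1), (30, -1, 2, 1)] := by decide +kernel
theorem terms_24_28 : chevF4.commTerms 24 28 = [(29, 1, 1, 1), (32, -1, 1, 2)] := by decide +kernel
theorem terms_25_34 : chevF4.commTerms 25 34 = [(35, 1, 1, 1), (41, 1, 1, 2)] := by decide +kernel
theorem neg_24 : chevF4.neg 24 = 23 := by decide +kernel
theorem neg_25 : chevF4.neg 25 = 22 := by decide +kernel
theorem neg_27 : 25 ≠ chevF4.neg 27 := by decide +kernel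
theorem vec_28 : ∀ i : Fin 4, rt chevF4 28 i = (if i = 1 then 1 else 0) + (if i = 2 then 1 else 0) := by decide +kernel
theorem vec_30 : ∀ i : Fin 4, rt chevF4 30 i = (if i = 1 then 2 else 0) + (if i = 2 then 1 else 0) := by decide +kernel
theorem lab_F4 : CoxeterMatrix.F₄ 0 1 ≠ 2 := by decide

section main

variable {K : Type u} [Field K]

theorem cgx (K : Type u) [Field K] : ParX.CGX CoxeterMatrix.F₄.toCoxeterSystem isType_F4.isCartan
      (fun x => (XV chevF4 4 K x).subgroupOf (chevF4.group K)) 1 2 (vec chevF4 4 28) (vec chevF4 4 30) := by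
  have hp := isType_F4
  set cs := CoxeterMatrix.F₄.toCoxeterSystem with hcs
  set Xr : (Fin 4 → ℤ) → Subgroup ↥(chevF4.group K) := fun x => (XV chevF4 4 K x).subgroupOf (chevF4.group K) with hXr
  set U := RGD.Sup Xr (RGD.Pos cs hp.isCartan) with hU
  -- positive root groups are in the image of `U`
  have hpos : ∀ r, r < chevF4.nroots → (∀ i : Fin 4, 0 ≤ rt chevF4 r i) →
      chevF4.rootSubgroup K r ≤ U.map (chevF4.group K).subtype := by
    intro r hr h0
    have h1 : Xr (vec chevF4 4 r) ≤ U := RGD.le_Sup ⟨isRoot_vec hp cs hr, fun i => h0 i⟩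
    have h2 := Subgroup.map_mono (f := (chevF4.group K).subtype) h1
    rw [hXr] at h2
    simp only [Subgroup.subgroupOf_map_subtype] at h2
    rw [inf_eq_left.2 (XV_le_group hp _), XV_vec hp K hr] at h2
    exact h2
  have hn := nroots_F4
  have hlt : ∀ q, q < 48 → q < chevF4.nroots := fun q hq => by rw [hn]; exact hq
  have hposn : ∀ q, q < 48 → 24 ≤ q → chevF4.rootSubgroup K q ≤ U.map (chevF4.group K).subtype := fun q h1 h2 =>
    hpos q (hlt q h1) (pos_F4 ⟨q, h1⟩ h2)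
  -- transfer
  have htr : ∀ (q : ℕ) (_ : q < chevF4.nroots) (P : Subgroup ↥(chevF4.group K)),
      (Xr (vec chevF4 4 q) ≤ P ↔ chevF4.rootSubgroup K q ≤ P.map (chevF4.group K).subtype) := by
    intro q hq P
    have h2 : (Xr (vec chevF4 4 q)).map (chevF4.group K).subtype = chevF4.rootSubgroup K q := by
      rw [hXr]
      simp only [Subgroup.subgroupOf_map_subtype]
      rw [inf_eq_left.2 (XV_le_group hp _), XV_vec hp K hq]
    rw [← h2, Subgroup.map_le_map_iff_of_injective (Subgroup.subtype_injective _)]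
  have h1t : ∀ q : Fin 48, (∀ i : Fin 4, 0 ≤ rt chevF4 q i) → (∀ i : Fin 4, (q : ℕ) ≠ chevF4.simple i) →
      (q : ℕ) ≠ 28 → (q : ℕ) ≠ 29 → (q : ℕ) ≠ 30 → (q : ℕ) ≠ 41 →
      chevF4.rootSubgroup K q ≤ ⁅U.map (chevF4.group K).subtype, U.map (chevF4.group K).subtype⁆ := by
    intro q h1 h2 h3 h4 h5 h6
    obtain ⟨e1, e2, e3, e4, e5⟩ := tab1_F4 q h1 h2 h3 h4 h5 h6
    unfold good1 at e5
    rw [Bool.and_eq_true, Bool.and_eq_true, Bool.or_eq_true, decide_eq_true_eq, decide_eq_true_eq, decide_eq_true_eq,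
      decide_eq_true_eq] at e5
    obtain ⟨⟨e6, e7⟩, e8⟩ := e5
    rcases e8 with e8 | e8
    · exact one_term hp (hlt _ e1) (hlt _ e2) e6 e7 e8 (Or.inl rfl) (hpos _ (hlt _ e1) e3) (hpos _ (hlt _ e2) e4)
    · exact one_term hp (hlt _ e1) (hlt _ e2) e6 e7 e8 (Or.inr rfl) (hpos _ (hlt _ e1) e3) (hpos _ (hlt _ e2) e4)
  have hns32 : ∀ i : Fin 4, (32 : ℕ) ≠ chevF4.simple i := by decide +kernel
  have hns35 : ∀ i : Fin 4, (35 : ℕ) ≠ chevF4.simple i := by decide +kernel
  have h32 := h1t ⟨32, by norm_num⟩ (pos_F4 _ (by norm_num)) hns32 (by norm_num) (by norm_num) (by norm_num) (by norm_num)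
  have h35 := h1t ⟨35, by norm_num⟩ (pos_F4 _ (by norm_num)) hns35 (by norm_num) (by norm_num) (by norm_num) (by norm_num)
  have h29 := a_of_b hp (hlt 24 (by norm_num)) (hlt 28 (by norm_num)) (by norm_num) (by rw [neg_24]; norm_num)
    terms_24_28 (Or.inl rfl) (hposn 24 (by norm_num) (by norm_num)) (hposn 28 (by norm_num) (by norm_num)) le_rfl h32
  have h41 := b_of_a hp (hlt 25 (by norm_num)) (hlt 34 (by norm_num)) (by norm_num) (by rw [neg_25]; norm_num)
    terms_25_34 (Or.inl rfl) (Or.inl ⟨rfl, rfl⟩) (hposn 25 (by norm_num) (by norm_num))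
    (hposn 34 (by norm_num) (by norm_num)) le_rfl h35
  have e28 : vec chevF4 4 28 = sr (1 : Fin 4) + sr 2 := by
    funext i
    show rt chevF4 28 i = _
    rw [vec_28, Pi.add_apply]
    fin_cases i <;> rfl
  have e30 : vec chevF4 4 30 = sr (1 : Fin 4) + sr 1 + sr 2 := by
    funext i
    show rt chevF4 30 i = _
    rw [vec_30, Pi.add_apply, Pi.add_apply]
    fin_cases i <;> rfl
  refine ⟨?_, isRoot_vec hp cs (hlt 28 (by norm_num)), e28, ?_, isRoot_vec hp cs (hlt 30 (by norm_num)), ?_, ?_, ?_, ?_,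
    ?_, by decide, ⟨0, by decide, by decide, Or.inl lab_F4⟩⟩
  · intro x hx h0 hns hd hd'
    obtain ⟨q, hq, rfl⟩ := (isRoot_iff hp cs x).1 hx
    have hq' : q < 48 := by rw [← nroots_F4]; exact hq
    rw [htr q hq, Subgroup.map_commutator]
    by_cases h28 : q = 28
    · exact absurd (by rw [h28]) hd
    by_cases h30 : q = 30
    · exact absurd (by rw [h30]) hd'
    by_cases h29' : q = 29
    · rw [h29']; exact h29
    by_cases h41' : q = 41
    · rw [h41']; exact h41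
    exact h1t ⟨q, hq'⟩ (fun i => h0 i) (fun i he => hns i (by
      rw [← vec_simple hp i]
      exact congrArg (vec chevF4 4) he)) h28 h29' h30 h41'
  · intro i h1
    rw [e28] at h1
    have h2 := congrFun h1 1
    have h3 := congrFun h1 2
    revert h2 h3
    fin_cases i <;> decide
  · rw [e30]
    exact add_nonneg (add_nonneg (sr_nonneg _) (sr_nonneg _)) (sr_nonneg _)
  · intro i h1
    rw [e30] at h1
    have h2 := congrFun h1 1
    revert h2
    fin_cases i <;> decide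
  · intro h1
    rw [e28, e30] at h1
    have h2 := congrFun h1 1
    revert h2
    decide
  · intro k h1 h2
    rw [e30]
    revert h1 h2
    fin_cases k <;> decide
  · intro P hP
    rw [htr 28 (hlt 28 (by norm_num)), htr 30 (hlt 30 (by norm_num))]
    have hQ : ⁅U.map (chevF4.group K).subtype, U.map (chevF4.group K).subtype⁆ ≤ P.map (chevF4.group K).subtype := by
      rw [← Subgroup.map_commutator]
      exact Subgroup.map_mono hP
    exact ⟨fun h => b_of_a hp (hlt 27 (by norm_num)) (hlt 25 (by norm_num)) (by norm_num) neg_27 terms_27_25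
        (Or.inr rfl) (Or.inr ⟨rfl, rfl⟩) (hposn 27 (by norm_num) (by norm_num)) (hposn 25 (by norm_num) (by norm_num)) hQ h,
      fun h => a_of_b hp (hlt 27 (by norm_num)) (hlt 25 (by norm_num)) (by norm_num) neg_27 terms_27_25
        (Or.inr rfl) (hposn 27 (by norm_num) (by norm_num)) (hposn 25 (by norm_num) (by norm_num)) hQ h⟩

theorem par_F4 [Finite K] (p : ℕ) [CharP K p] : Par p ↥(chevF4.group K) := by
  have : Fact p.Prime := ⟨CharP.char_is_prime K p⟩
  have hp := isType_F4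
  have := finite_W hp CoxeterMatrix.F₄.toCoxeterSystem
  exact ParX.par (rgd (K := K) hp CoxeterMatrix.F₄.toCoxeterSystem p) (G1_eq_top hp _) (cgx K)
    (Nodes.Chart.Ty.irr .F4 trivial)

end main

end Cfsg.Agent.H396.ParF4
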