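import Mathlib

/-!
# Commuting elements of orders `u` and `v` (helper396)

`glue` : a finite group of order divisible by the primes `u ≠ v` has commuting elements of orders `u` and `v`, if no
simple group of order dividing the order of the group has order divisible by `u v`, and `v ∤ u ^ j - 1`, `u ∤ v ^ j - 1`
for the powers dividing the order.
-/

set_option autoImplicit false

namespace Cfsg.Agent.H396.Glue

open Subgroup

/-- no simple group of order dividing `N` has order divisible by `u` and `v` -/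
def NoS.{w} (N u v : ℕ) : Prop := ∀ (S : Type w) [Group S] [Finite S], IsSimpleGroup S → Nat.card S ∣ N →
  u ∣ Nat.card S → v ∣ Nat.card S → False

theorem NoS.symm.{w} {N u v : ℕ} (h : NoS.{w} N u v) : NoS.{w} N v u := fun S _ _ hs h1 h2 h3 => h S hs h1 h3 h2

theorem NoS.dvd.{w} {N N' u v : ℕ} (h : NoS.{w} N u v) (hd : N' ∣ N) : NoS.{w} N' u v :=
  fun S _ _ hs h1 h2 h3 => h S hs (h1.trans hd) h2 h3

/-- an element of order `v` acting on a normal `u`-subgroup -/
theorem final {G : Type*} [Group G] [Finite G] {u v : ℕ} (hu : u.Prime) (hv : v.Prime) {U : Subgroup G}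
    [hUn : U.Normal] (hU : IsPGroup u U) (hU1 : U ≠ ⊥) (hvG : v ∣ Nat.card G)
    (h1 : ∀ j : ℕ, 1 ≤ j → u ^ j ∣ Nat.card G → ¬ v ∣ u ^ j - 1) :
    ∃ x y : G, orderOf x = u ∧ orderOf y = v ∧ x * y = y * x := by
  classical
  have := Fact.mk hu
  have := Fact.mk hv
  obtain ⟨y, hy⟩ := exists_prime_orderOf_dvd_card' v hvG
  -- a nontrivial fixed element of `U`
  obtain ⟨x, hxU, hx1, hxy⟩ : ∃ x ∈ U, x ≠ 1 ∧ x * y = y * x := by
    by_contra hcon
    push Not at hcon
    obtain ⟨j, hj⟩ := IsPGroup.iff_card.1 hU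
    have hfin : Fintype U := Fintype.ofFinite _
    let f : Function.End U := fun x => ⟨y * x * y⁻¹, hUn.conj_mem _ x.2 y⟩
    have hf : ∀ (k : ℕ) (x : U), (((f ^ k : Function.End U) x : U) : G) = y ^ k * x * (y ^ k)⁻¹ := by
      intro k
      induction k with
      | zero =>
        intro x
        rw [pow_zero, pow_zero, one_mul, inv_one, mul_one]; rfl
      | succ k ih =>
        intro x
        have e1 : (f ^ (k + 1) : Function.End U) x = f ((f ^ k : Function.End U) x) := by rw [pow_succ']; rfl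
        rw [e1]
        show y * (((f ^ k : Function.End U) x : U) : G) * y⁻¹ = _
        rw [ih, pow_succ']
        group
    have hfv : f ^ v ^ 1 = 1 := by
      funext x
      apply Subtype.ext
      rw [hf, pow_one, ← hy, pow_orderOf_eq_one]
      show 1 * (x : G) * 1⁻¹ = x
      group
    have hmod := Equiv.Perm.card_fixedPoints_modEq hfv
    rw [← Nat.card_eq_fintype_card, hj, ← Nat.card_eq_fintype_card] at hmod
    have hone : Nat.card (Function.fixedPoints f) = 1 := by
      rw [Nat.card_eq_one_iff_unique]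
      have key : ∀ x : Function.fixedPoints f, ((x : U) : G) = 1 := by
        rintro ⟨x, hx⟩
        by_contra hx1
        have h2 : y * (x : G) * y⁻¹ = x := congrArg Subtype.val hx
        exact hcon x x.2 hx1 (by rw [← mul_inv_eq_iff_eq_mul.symm, eq_comm] at h2; rw [h2])
      refine ⟨⟨fun a b => Subtype.ext (Subtype.ext ((key a).trans (key b).symm))⟩, ⟨⟨1, ?_⟩⟩⟩
      show f 1 = 1
      apply Subtype.ext
      show y * 1 * y⁻¹ = 1
      group
    rw [hone] at hmod
    have hj1 : 1 ≤ j := by
      by_contra h0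
      have : j = 0 := by omega
      rw [this, pow_zero] at hj
      exact hU1 (Subgroup.card_eq_one.1 hj)
    refine h1 j hj1 ?_ ((Nat.modEq_iff_dvd' (Nat.one_le_pow _ _ hu.pos)).1 hmod.symm)
    rw [← hj]; exact Subgroup.card_subgroup_dvd_card U
  -- a power of order `u`
  obtain ⟨k, hk⟩ := (IsPGroup.iff_orderOf.1 hU) ⟨x, hxU⟩
  rw [Subgroup.orderOf_mk] at hk
  have hk1 : k ≠ 0 := by
    rintro rfl
    rw [pow_zero, orderOf_eq_one_iff] at hk
    exact hx1 hk
  refine ⟨x ^ u ^ (k - 1), y, ?_, hy, ?_⟩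
  · rw [orderOf_pow_of_dvd (pow_ne_zero _ hu.ne_zero) (by rw [hk]; exact pow_dvd_pow _ (by omega)), hk,
      Nat.pow_div (by omega) hu.pos]
    have : k - (k - 1) = 1 := by omega
    rw [this, pow_one]
  · exact ((show Commute x y from hxy).pow_left _).eq

/-- the step with a normal subgroup of order divisible by `u` -/
theorem stepN {G : Type*} [Group G] [Finite G] {u v : ℕ} (hu : u.Prime) (hv : v.Prime)
    (hmin : ∀ H : Subgroup G, u ∣ Nat.card H → v ∣ Nat.card H → H = ⊤)
    (h1 : ∀ j : ℕ, 1 ≤ j → u ^ j ∣ Nat.card G → ¬ v ∣ u ^ j - 1) (hvG : v ∣ Nat.card G)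
    {N : Subgroup G} [hN : N.Normal] (hNt : N ≠ ⊤) (huN : u ∣ Nat.card N) :
    ∃ x y : G, orderOf x = u ∧ orderOf y = v ∧ x * y = y * x := by
  have := Fact.mk hu
  obtain ⟨P⟩ : Nonempty (Sylow u N) := inferInstance
  set U : Subgroup G := (P : Subgroup N).map N.subtype with hUdef
  have hvN : ¬ v ∣ Nat.card N := fun h => hNt (hmin N huN h)
  have hUN : U ≤ N := Subgroup.map_subtype_le _
  have hcU : Nat.card U = Nat.card (P : Subgroup N) := by
    rw [hUdef]
    exact (Nat.card_congr (Subgroup.equivMapOfInjective _ N.subtype N.subtype_injective).toEquiv).symm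
  have huU : u ∣ Nat.card U := by
    rw [hcU]
    exact P.dvd_card_of_dvd_card huN
  have hF : normalizer (U : Set G) ⊔ N = ⊤ := by
    have := Sylow.normalizer_sup_eq_top P
    exact this
  have hK : normalizer (U : Set G) = ⊤ := by
    refine hmin _ (huU.trans (Subgroup.card_dvd_of_le le_normalizer)) ?_
    have h2 := Subgroup.relIndex_sup_right (normalizer (U : Set G)) N
    rw [hF, Subgroup.relIndex_top_right] at h2
    have h3 : v ∣ N.index := by
      have h4 := Subgroup.card_mul_index N
      rw [← h4] at hvG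
      exact (hv.dvd_mul.1 hvG).resolve_left hvN
    rw [h2] at h3
    exact h3.trans (Subgroup.relIndex_dvd_card _ _)
  have hUn : U.Normal := normalizer_eq_top_iff.1 hK
  refine final hu hv (U := U) (P.isPGroup'.map _) ?_ hvG h1
  intro hb
  rw [hb, Subgroup.card_bot] at huU
  exact hu.one_lt.ne' (Nat.dvd_one.1 huU)

/-- **The glue lemma.** -/
theorem glue.{w} {N u v : ℕ} (hN0 : 0 < N) (hu : u.Prime) (hv : v.Prime) (huv : u ≠ v)
    (h1 : ∀ j : ℕ, 1 ≤ j → u ^ j ∣ N → ¬ v ∣ u ^ j - 1) (h2 : ∀ j : ℕ, 1 ≤ j → v ^ j ∣ N → ¬ u ∣ v ^ j - 1)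
    (hS : NoS.{w} N u v) : ∀ (G : Type w) [Group G] [Finite G], Nat.card G ∣ N → u ∣ Nat.card G → v ∣ Nat.card G →
    ∃ x y : G, orderOf x = u ∧ orderOf y = v ∧ x * y = y * x := by
  have main : ∀ (n : ℕ) (G : Type w) [Group G] [Finite G], Nat.card G = n → Nat.card G ∣ N → u ∣ Nat.card G →
      v ∣ Nat.card G → ∃ x y : G, orderOf x = u ∧ orderOf y = v ∧ x * y = y * x := by
    intro n
    induction n using Nat.strong_induction_on with
    | _ n ih =>
    intro G _ _ hn hGN huG hvG
    by_cases hmin : ∀ H : Subgroup G, u ∣ Nat.card H → v ∣ Nat.card H → H = ⊤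
    swap
    · push Not at hmin
      obtain ⟨H, hH1, hH2, hHt⟩ := hmin
      have hlt : Nat.card H < n := by
        rw [← hn]
        refine lt_of_le_of_ne (Nat.le_of_dvd Nat.card_pos (Subgroup.card_subgroup_dvd_card H)) fun h => hHt ?_
        exact Subgroup.eq_top_of_card_eq H h
      obtain ⟨x, y, hx, hy, hxy⟩ := ih _ hlt H rfl ((Subgroup.card_subgroup_dvd_card H).trans hGN) hH1 hH2
      exact ⟨x, y, by rw [Subgroup.orderOf_coe]; exact hx, by rw [Subgroup.orderOf_coe]; exact hy,
        congrArg Subtype.val hxy⟩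
    have h1' : ∀ j : ℕ, 1 ≤ j → u ^ j ∣ Nat.card G → ¬ v ∣ u ^ j - 1 := fun j hj hd => h1 j hj (hd.trans hGN)
    have h2' : ∀ j : ℕ, 1 ≤ j → v ^ j ∣ Nat.card G → ¬ u ∣ v ^ j - 1 := fun j hj hd => h2 j hj (hd.trans hGN)
    have hmin' : ∀ H : Subgroup G, v ∣ Nat.card H → u ∣ Nat.card H → H = ⊤ := fun H a b => hmin H b a
    -- `G` is not simple
    obtain ⟨K, hKn, hK1, hKt⟩ : ∃ K : Subgroup G, K.Normal ∧ K ≠ ⊥ ∧ K ≠ ⊤ := by
      by_contra hcon
      push Not at hcon
      have hnt : Nontrivial G := by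
        by_contra h3
        rw [not_nontrivial_iff_subsingleton] at h3
        rw [Nat.card_unique] at huG
        exact hu.one_lt.ne' (Nat.dvd_one.1 huG)
      refine hS G ⟨fun K hK => ?_⟩ hGN huG hvG
      by_cases h3 : K = ⊥
      · exact Or.inl h3
      · exact Or.inr (hcon K hK h3)
    have swap : (∃ x y : G, orderOf x = v ∧ orderOf y = u ∧ x * y = y * x) →
        ∃ x y : G, orderOf x = u ∧ orderOf y = v ∧ x * y = y * x := fun ⟨x, y, hx, hy, hxy⟩ =>
      ⟨y, x, hy, hx, hxy.symm⟩
    by_cases huK : u ∣ Nat.card K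
    · exact stepN hu hv hmin h1' hvG hKt huK
    by_cases hvK : v ∣ Nat.card K
    · exact swap (stepN hv hu hmin' h2' huG hKt hvK)
    -- the quotient
    have hidx : Nat.card K * K.index = Nat.card G := Subgroup.card_mul_index K
    have hci : Nat.card (G ⧸ K) = K.index := rfl
    have huQ : u ∣ Nat.card (G ⧸ K) := by
      rw [← hidx] at huG
      exact (hu.dvd_mul.1 huG).resolve_left huK
    have hvQ : v ∣ Nat.card (G ⧸ K) := by
      rw [← hidx] at hvG
      exact (hv.dvd_mul.1 hvG).resolve_left hvK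
    have hltQ : Nat.card (G ⧸ K) < n := by
      rw [← hn, ← hidx, hci]
      have h3 : 1 < Nat.card K := (Subgroup.one_lt_card_iff_ne_bot K).2 hK1
      have h4 : 0 < K.index := Nat.pos_of_ne_zero index_ne_zero_of_finite
      nlinarith
    obtain ⟨a, b, ha, hb, hab⟩ := ih _ hltQ (G ⧸ K) rfl ((Dvd.intro_left _ (by rw [hci]; exact hidx)).trans hGN)
      huQ hvQ
    have hcop : Nat.Coprime u v := (Nat.coprime_primes hu hv).2 huv
    -- the preimage of `⟨a b⟩` is `G`
    have hab' : orderOf (a * b) = u * v := by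
      rw [(show Commute a b from hab).orderOf_mul_eq_mul_orderOf_of_coprime (by rw [ha, hb]; exact hcop), ha, hb]
    have hcard_comap : ∀ L : Subgroup (G ⧸ K), Nat.card (L.comap (QuotientGroup.mk' K)) = Nat.card K * Nat.card L := by
      intro L
      have h3 := Subgroup.card_mul_index (L.comap (QuotientGroup.mk' K))
      rw [Subgroup.index_comap_of_surjective _ (QuotientGroup.mk'_surjective K)] at h3
      have h4 := Subgroup.card_mul_index L
      rw [hci] at h4
      have h5 : 0 < L.index := Nat.pos_of_ne_zero index_ne_zero_of_finite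
      refine Nat.eq_of_mul_eq_mul_right h5 ?_
      rw [h3, mul_assoc, h4, hidx]
    have htop : (zpowers (a * b)).comap (QuotientGroup.mk' K) = ⊤ := by
      refine hmin _ ?_ ?_
      · rw [hcard_comap, Nat.card_zpowers, hab']
        exact Dvd.dvd.mul_left (dvd_mul_right _ _) _
      · rw [hcard_comap, Nat.card_zpowers, hab']
        exact Dvd.dvd.mul_left (dvd_mul_left _ _) _
    have htop' : ∀ q : G ⧸ K, q ∈ zpowers (a * b) := by
      intro q
      obtain ⟨g, rfl⟩ := QuotientGroup.mk'_surjective K q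
      have : g ∈ (zpowers (a * b)).comap (QuotientGroup.mk' K) := by rw [htop]; trivial
      exact this
    have hcomm : ∀ q : G ⧸ K, q * a * q⁻¹ = a := by
      intro q
      obtain ⟨i, rfl⟩ := mem_zpowers_iff.1 (htop' q)
      have h3 : Commute (a * b) a := by
        show a * b * a = a * (a * b)
        rw [mul_assoc, ← hab]
      have h4 : Commute ((a * b) ^ i) a := h3.zpow_left i
      rw [h4.eq, mul_inv_cancel_right]
    have hLn : ((zpowers a).comap (QuotientGroup.mk' K)).Normal := by
      have : (zpowers a).Normal := by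
        constructor
        intro x hx q
        obtain ⟨i, rfl⟩ := mem_zpowers_iff.1 hx
        have h3 : q * a ^ i * q⁻¹ = (q * a * q⁻¹) ^ i := by rw [conj_zpow]
        rw [h3, hcomm]
        exact ⟨i, rfl⟩
      exact this.comap _
    have hcL : Nat.card ((zpowers a).comap (QuotientGroup.mk' K)) = Nat.card K * u := by
      rw [hcard_comap, Nat.card_zpowers, ha]
    refine stepN hu hv hmin h1' hvG (N := (zpowers a).comap (QuotientGroup.mk' K)) ?_ (by rw [hcL]; exact dvd_mul_left _ _)
    intro h3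
    rw [h3, Subgroup.card_top] at hcL
    rw [hcL] at hvG
    rcases hv.dvd_mul.1 hvG with h4 | h4
    · exact hvK h4
    · exact huv ((Nat.prime_dvd_prime_iff_eq hv hu).1 h4).symm
  exact fun G _ _ a b c => main _ G rfl a b c

end Cfsg.Agent.H396.Glue
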