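import Mathlib
import Cfsg.Agent.H396.Glue

/-!
# Fixed points of commuting elements of prime order (helper396)

* `card_fixed_dvd` : the number of fixed points of a generator of a Sylow subgroup of prime order divides `|T|`;
* `card_le_add` : `n ≤ fix x + fix y` for commuting `x`, `y` of prime orders `u ≠ v`, `n < u v`.
-/

set_option autoImplicit false

namespace Cfsg.Agent.H396.Glue

open Subgroup MulAction

section

variable {T Ω : Type*} [Group T] [MulAction T Ω]

theorem smul_zpow_fix {x : T} {ω : Ω} (h : x • ω = ω) (k : ℤ) : x ^ k • ω = ω := by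
  have : x ∈ stabilizer T ω := h
  exact zpow_mem this k

theorem smul_pow_fix {x : T} {ω : Ω} (h : x • ω = ω) (k : ℕ) : x ^ k • ω = ω := by
  have : x ∈ stabilizer T ω := h
  exact pow_mem this k

/-- two subgroups of prime order `u` are conjugate, if `u ^ 2` does not divide the order -/
theorem conj_of_order [Finite T] {u : ℕ} (hu : u.Prime) (hT : ¬ u ^ 2 ∣ Nat.card T) {x y : T} (hx : orderOf x = u)
    (hy : orderOf y = u) : ∃ h : T, ∃ k : ℤ, h * y * h⁻¹ = x ^ k := by
  have := Fact.mk hu
  have hX : IsPGroup u (zpowers x) := IsPGroup.of_card (n := 1) (by rw [Nat.card_zpowers, hx, pow_one])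
  have hY : IsPGroup u (zpowers y) := IsPGroup.of_card (n := 1) (by rw [Nat.card_zpowers, hy, pow_one])
  obtain ⟨P, hP⟩ := hX.exists_le_sylow
  obtain ⟨Q, hQ⟩ := hY.exists_le_sylow
  have hcard : ∀ R : Sylow u T, Nat.card (R : Subgroup T) ∣ u := by
    intro R
    obtain ⟨k, hk⟩ := IsPGroup.iff_card.1 R.isPGroup'
    have hk1 : k ≤ 1 := by
      by_contra h1
      refine hT ((pow_dvd_pow u (by omega : 2 ≤ k)).trans ?_)
      rw [← hk]; exact Subgroup.card_subgroup_dvd_card _
    rw [hk]
    calc u ^ k ∣ u ^ 1 := pow_dvd_pow u hk1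
      _ = u := pow_one u
  have hPx : (P : Subgroup T) = zpowers x := by
    refine (Subgroup.eq_of_le_of_card_ge hP ?_).symm
    rw [Nat.card_zpowers, hx]
    exact Nat.le_of_dvd hu.pos (hcard P)
  obtain ⟨h, hh⟩ := exists_smul_eq T Q P
  have h1 : h * y * h⁻¹ ∈ (P : Subgroup T) := by
    rw [← hh, Sylow.coe_subgroup_smul]
    rw [Subgroup.mem_pointwise_smul_iff_inv_smul_mem]
    have : (MulAut.conj h)⁻¹ • (h * y * h⁻¹) = y := by
      simp [MulAut.smul_def, MulAut.inv_apply]
      group
    rw [this]; exact hQ (mem_zpowers y)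
  rw [hPx] at h1
  obtain ⟨k, hk⟩ := mem_zpowers_iff.1 h1
  exact ⟨h, k, hk.symm⟩

/-- the number of fixed points of a generator of a Sylow subgroup of prime order -/
theorem card_fixed_dvd [Finite T] [Finite Ω] (htr : IsPretransitive T Ω) {u : ℕ} (hu : u.Prime)
    (hT : ¬ u ^ 2 ∣ Nat.card T) {x : T} (hx : orderOf x = u) {α : Ω} (hα : x • α = α) :
    Nat.card (fixedBy Ω x) ∣ Nat.card T := by
  -- the normalizer of `⟨x⟩` is transitive on the fixed points
  set K := normalizer ((zpowers x : Subgroup T) : Set T) with hK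
  have horb : (orbit K α : Set Ω) = fixedBy Ω x := by
    ext β
    constructor
    · rintro ⟨n, rfl⟩
      show x • (n : T) • α = (n : T) • α
      have h1 : (n : T)⁻¹ * x * (n : T) ∈ zpowers x := by
        have h2 := (mem_normalizer_iff.1 (inv_mem n.2) x).1 (mem_zpowers x)
        rwa [inv_inv] at h2
      obtain ⟨k, hk⟩ := mem_zpowers_iff.1 h1
      have h3 : x • (n : T) • α = (n : T) • ((n : T)⁻¹ * x * (n : T)) • α := by
        rw [smul_smul, smul_smul]; congr 1; group
      rw [h3, ← hk, smul_zpow_fix hα]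
    · intro hβ
      have hβ' : x • β = β := hβ
      obtain ⟨g, rfl⟩ := exists_smul_eq T α β
      -- both `x` and `g x g⁻¹` are in the stabilizer of `β`
      let S := stabilizer T (g • α)
      have hS : ¬ u ^ 2 ∣ Nat.card S := fun h => hT (h.trans (Subgroup.card_subgroup_dvd_card S))
      have h2 : g * x * g⁻¹ ∈ S := by
        show (g * x * g⁻¹) • g • α = g • α
        rw [smul_smul]
        have : g * x * g⁻¹ * g = g * x := by group
        rw [this, mul_smul, hα]
      have ho2 : orderOf (g * x * g⁻¹) = u := by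
        rw [← hx]
        exact orderOf_injective (MulAut.conj g).toMonoidHom (MulAut.conj g).injective x
      have hxS : x ∈ S := hβ'
      obtain ⟨h, k, hk⟩ := conj_of_order hu hS (x := (⟨x, hxS⟩ : S)) (y := ⟨g * x * g⁻¹, h2⟩)
        (by rw [Subgroup.orderOf_mk]; exact hx) (by rw [Subgroup.orderOf_mk]; exact ho2)
      have hk' : (h : T) * (g * x * g⁻¹) * (h : T)⁻¹ = x ^ k := congrArg Subtype.val hk
      have hn : (h : T) * g ∈ K := by
        have h4 : ((h : T) * g) * x * ((h : T) * g)⁻¹ = x ^ k := by rw [← hk']; group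
        -- the conjugate of `⟨x⟩` is contained in `⟨x⟩`
        have h5 : (zpowers x).map (MulAut.conj ((h : T) * g)).toMonoidHom ≤ zpowers x := by
          rw [MonoidHom.map_zpowers, zpowers_le]
          show ((h : T) * g) * x * ((h : T) * g)⁻¹ ∈ zpowers x
          rw [h4]; exact ⟨k, rfl⟩
        have h6 : (zpowers x).map (MulAut.conj ((h : T) * g)).toMonoidHom = zpowers x := by
          refine Subgroup.eq_of_le_of_card_ge h5 ?_
          rw [Subgroup.card_map_of_injective (MulAut.conj ((h : T) * g)).injective]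
        rw [hK, mem_normalizer_iff]
        intro z
        constructor
        · intro hz
          rw [← h6]
          exact ⟨z, hz, rfl⟩
        · intro hz
          rw [← h6] at hz
          obtain ⟨z', hz', he⟩ := hz
          have : z' = z := (MulAut.conj ((h : T) * g)).injective he
          rwa [← this]
      refine ⟨⟨(h : T) * g, hn⟩, ?_⟩
      show ((h : T) * g) • α = g • α
      rw [mul_smul]
      exact h.2
  have h1 : Nat.card (fixedBy Ω x) = (stabilizer K α).index := by
    rw [index_stabilizer, ← horb, Nat.card_coe_set_eq]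
  rw [h1]
  exact (Subgroup.index_dvd_card _).trans (Subgroup.card_subgroup_dvd_card K)

/-- the fixed points of an element of prime order -/
theorem card_fixed_mod [Finite Ω] {u : ℕ} (hu : u.Prime) {x : T} (hx : x ^ u = 1) :
    Nat.card Ω ≡ Nat.card (fixedBy Ω x) [MOD u] := by
  classical
  have := Fact.mk hu
  have hfin : Fintype Ω := Fintype.ofFinite _
  let f : Function.End Ω := fun y => x • y
  have hf : ∀ (k : ℕ) (y : Ω), (f ^ k : Function.End Ω) y = x ^ k • y := by
    intro k
    induction k with
    | zero => intro y; rw [pow_zero, pow_zero, one_smul]; rfl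
    | succ k ih =>
      intro y
      rw [pow_succ', pow_succ', mul_smul]
      show x • ((f ^ k : Function.End Ω) y) = _
      rw [ih]
  have hfu : f ^ u ^ 1 = 1 := by
    funext y
    rw [hf, pow_one, hx, one_smul]
    rfl
  have hmod := Equiv.Perm.card_fixedPoints_modEq hfu
  rw [← Nat.card_eq_fintype_card, ← Nat.card_eq_fintype_card] at hmod
  exact hmod

theorem card_le_add [Finite Ω] {u v : ℕ} (hu : u.Prime) (hv : v.Prime) (huv : u ≠ v) {x y : T}
    (hx : x ^ u = 1) (hy : y ^ v = 1) (hxy : x * y = y * x) (hn : Nat.card Ω < u * v) :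
    Nat.card Ω ≤ Nat.card (fixedBy Ω x) + Nat.card (fixedBy Ω y) := by
  classical
  have hcov : (Set.univ : Set Ω) ⊆ fixedBy Ω x ∪ fixedBy Ω y := by
    intro ω _
    by_contra hcon
    rw [Set.mem_union, not_or] at hcon
    have hxω : x • ω ≠ ω := hcon.1
    have hyω : y • ω ≠ ω := hcon.2
    have hc : Commute x y := hxy
    have hcop : Nat.Coprime u v := (Nat.coprime_primes hu hv).2 huv
    have hp1 : (x * y) ^ (u * v) = 1 := by
      rw [hc.mul_pow, pow_mul, hx, one_pow, one_mul, mul_comm u v, pow_mul, hy, one_pow]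
    -- the period
    have hper : MulAction.period (x * y) ω ∣ u * v :=
      MulAction.pow_smul_eq_iff_period_dvd.1 (by rw [hp1, one_smul])
    have hfixx : ¬ MulAction.period (x * y) ω ∣ v := by
      intro h2
      have h3 : (x * y) ^ v • ω = ω := MulAction.pow_smul_eq_iff_period_dvd.2 h2
      rw [hc.mul_pow, hy, mul_one] at h3
      -- `x` is a power of `x ^ v`
      obtain ⟨j, hj⟩ := exists_pow_eq_self_of_coprime (x := x) (n := v)
        (Nat.Coprime.coprime_dvd_right (orderOf_dvd_of_pow_eq_one hx) hcop.symm)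
      have h4 := smul_pow_fix h3 j
      rw [hj] at h4
      exact hxω h4
    have hfixy : ¬ MulAction.period (x * y) ω ∣ u := by
      intro h2
      have h3 : (x * y) ^ u • ω = ω := MulAction.pow_smul_eq_iff_period_dvd.2 h2
      rw [hc.mul_pow, hx, one_mul] at h3
      obtain ⟨j, hj⟩ := exists_pow_eq_self_of_coprime (x := y) (n := u)
        (Nat.Coprime.coprime_dvd_right (orderOf_dvd_of_pow_eq_one hy) hcop)
      have h4 := smul_pow_fix h3 j
      rw [hj] at h4
      exact hyω h4
    have hp : MulAction.period (x * y) ω = u * v := by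
      obtain ⟨⟨a, ha⟩, ⟨b, hb⟩, hab⟩ := (Nat.dvd_mul).1 hper |> fun ⟨a, b, h1, h2, h3⟩ => (⟨⟨a, h1⟩, ⟨b, h2⟩, h3⟩ :
        ∃ (a : {a // a ∣ u}) (b : {b // b ∣ v}), a.1 * b.1 = MulAction.period (x * y) ω)
      simp only at hab
      rcases (Nat.dvd_prime hu).1 ha with rfl | rfl
      · exfalso
        apply hfixx
        rw [← hab, one_mul]
        exact hb
      · rcases (Nat.dvd_prime hv).1 hb with rfl | rfl
        · exfalso
          apply hfixy
          rw [← hab, mul_one]
        · exact hab.symm
    have h5 : MulAction.period (x * y) ω ≤ Nat.card Ω := by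
      have h6 : Nat.card (orbit (zpowers (x * y)) ω) = MulAction.period (x * y) ω := by
        have hfin : Fintype (orbit (zpowers (x * y)) ω) := Fintype.ofFinite _
        rw [MulAction.period_eq_minimalPeriod, Nat.card_eq_fintype_card]
        exact (MulAction.minimalPeriod_eq_card (a := x * y) (b := ω)).symm
      rw [← h6]
      exact Nat.card_le_card_of_injective _ Subtype.val_injective
    omega
  have h1 : Nat.card Ω = (Set.univ : Set Ω).ncard := (Set.ncard_univ Ω).symm
  rw [h1, Nat.card_coe_set_eq, Nat.card_coe_set_eq]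
  exact (Set.ncard_le_ncard hcov (Set.toFinite _)).trans (Set.ncard_union_le _ _)

end

end Cfsg.Agent.H396.Glue
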