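import Mathlib
import Cfsg.Agent.H568.Row
import Cfsg.Agent.H396.GlueFix
import Cfsg.Agent.H396.ThreeOnTwo

/-!
# The `3`-part of a group with an element of prime order `r` normalising no `3`-subgroup (helper396)
-/

set_option autoImplicit false

namespace Cfsg.Agent.H396.NoNormA

open Subgroup MulAction Cfsg.Agent.H568 Cfsg.Agent.H396.Glue

universe u

/-- no element of order `r` normalises a nontrivial `3`-subgroup -/
def NN (r : ℕ) (G : Type*) [Group G] : Prop := ∀ x : G, orderOf x = r → NoNorm 3 x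

theorem NN.of_injective {r : ℕ} {G H : Type*} [Group G] [Group H] (f : G →* H) (hf : Function.Injective f)
    (h : NN r H) : NN r G := by
  intro x hx Q hQ hn
  have h1 := h (f x) (by rw [orderOf_injective f hf, hx]) (Q.map f) (hQ.map f) (by
    rw [mem_normalizer_iff] at hn ⊢
    intro y
    constructor
    · rintro ⟨z, hz, rfl⟩
      exact ⟨x * z * x⁻¹, (hn z).1 hz, by rw [map_mul, map_mul, map_inv]⟩
    · rintro ⟨z, hz, he⟩
      refine ⟨x⁻¹ * z * x, (hn _).2 ?_, ?_⟩
      · have : x * (x⁻¹ * z * x) * x⁻¹ = z := by group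
        rw [this]; exact hz
      · rw [map_mul, map_mul, map_inv, he]; group)
  exact (Subgroup.map_eq_bot_iff_of_injective Q hf).1 h1

theorem NN.subgroup {r : ℕ} {G : Type*} [Group G] (h : NN r G) (H : Subgroup G) : NN r H :=
  h.of_injective H.subtype H.subtype_injective

theorem exists_max_normal {K : Type*} [Group K] [Finite K] [Nontrivial K] :
    ∃ N : Subgroup K, ∃ _ : N.Normal, IsSimpleGroup (K ⧸ N) := by
  classical
  have h1 : {N : Subgroup K | N.Normal ∧ N ≠ ⊤}.Nonempty := ⟨⊥, inferInstance, bot_ne_top⟩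
  obtain ⟨N, hN⟩ := (Set.toFinite {N : Subgroup K | N.Normal ∧ N ≠ ⊤}).exists_maximal h1
  have hNn : N.Normal := hN.prop.1
  refine ⟨N, hNn, ?_⟩
  have hnt : Nontrivial (K ⧸ N) := by
    by_contra h2
    rw [not_nontrivial_iff_subsingleton] at h2
    refine hN.prop.2 ?_
    rw [eq_top_iff]
    intro x _
    rw [← QuotientGroup.eq_one_iff]
    exact Subsingleton.elim _ _
  refine ⟨fun H hH => ?_⟩
  by_cases h : H.comap (QuotientGroup.mk' N) = ⊤
  · right
    rw [eq_top_iff]
    intro q _
    obtain ⟨x, rfl⟩ := QuotientGroup.mk'_surjective N q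
    have : x ∈ H.comap (QuotientGroup.mk' N) := by rw [h]; trivial
    exact this
  · left
    have h2 : N ≤ H.comap (QuotientGroup.mk' N) := by
      intro x hx
      show QuotientGroup.mk' N x ∈ H
      rw [show QuotientGroup.mk' N x = 1 from (QuotientGroup.eq_one_iff x).2 hx]
      exact one_mem H
    have h3 := hN.le_of_ge ⟨hH.comap _, h⟩ h2
    rw [eq_bot_iff]
    intro q hq
    obtain ⟨x, rfl⟩ := QuotientGroup.mk'_surjective N q
    have h4 : x ∈ H.comap (QuotientGroup.mk' N) := hq
    exact (QuotientGroup.eq_one_iff x).2 (h3 h4)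

/-- the invariant Sylow `3`-subgroup of a normal `r'`-subgroup is trivial -/
theorem inv {r : ℕ} (hr : r.Prime) {G : Type*} [Group G] [Finite G] (h : NN r G) (hrG : r ∣ Nat.card G)
    (L : Subgroup G) [L.Normal] (hrL : ¬ r ∣ Nat.card L) : ¬ 3 ∣ Nat.card L := by
  intro h3
  have i3 : Fact (Nat.Prime 3) := ⟨Nat.prime_three⟩
  have ir : Fact r.Prime := ⟨hr⟩
  obtain ⟨P⟩ : Nonempty (Sylow 3 L) := inferInstance
  set U : Subgroup G := (P : Subgroup L).map L.subtype with hU
  have hF : normalizer (U : Set G) ⊔ L = ⊤ := Sylow.normalizer_sup_eq_top P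
  have h2 := Subgroup.relIndex_sup_right (normalizer (U : Set G)) L
  rw [hF, Subgroup.relIndex_top_right] at h2
  have h4 : r ∣ L.index := by
    rw [← Subgroup.card_mul_index L] at hrG
    exact (hr.dvd_mul.1 hrG).resolve_left hrL
  rw [h2] at h4
  obtain ⟨y, hy⟩ := exists_prime_orderOf_dvd_card' r (h4.trans (Subgroup.relIndex_dvd_card _ _))
  have h5 := h (y : G) (by rw [Subgroup.orderOf_coe]; exact hy) U (P.isPGroup'.map _) y.2
  have h6 : (P : Subgroup L) = ⊥ := (Subgroup.map_eq_bot_iff_of_injective _ L.subtype_injective).1 h5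
  have h7 := P.dvd_card_of_dvd_card h3
  have h8 : Nat.card P = 1 := by
    show Nat.card (P : Subgroup L) = 1
    rw [h6, Subgroup.card_bot]
  rw [h8] at h7
  revert h7
  norm_num

/-- the normalizer of a subgroup of order `r` -/
theorem normalizer_nine {r : ℕ} (hr : r.Prime) (hr9 : ¬ 9 ∣ r - 1) {G : Type*} [Group G] [Finite G] (h : NN r G) {x : G}
    (hx : orderOf x = r) : ¬ 9 ∣ Nat.card (normalizer ((zpowers x : Subgroup G) : Set G)) := by
  classical
  intro h9
  apply hr9
  have i3 : Fact (Nat.Prime 3) := ⟨Nat.prime_three⟩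
  set N := normalizer ((zpowers x : Subgroup G) : Set G) with hN
  obtain ⟨S⟩ : Nonempty (Sylow 3 N) := inferInstance
  have hS9 : 9 ∣ Nat.card S := by
    have := S.pow_dvd_card_of_pow_dvd_card (n := 2) (by norm_num; exact h9)
    norm_num at this
    exact this
  -- the action on the elements of order `r`
  let X := {v : G // v ∈ zpowers x ∧ v ≠ 1}
  have hmem : ∀ (s : ↥(S : Subgroup N)) (v : X), ((s : N) : G) * v * ((s : N) : G)⁻¹ ∈ zpowers x ∧
      ((s : N) : G) * v * ((s : N) : G)⁻¹ ≠ 1 := by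
    intro s v
    refine ⟨(mem_normalizer_iff.1 (s : N).2 _).1 v.2.1, fun h1 => v.2.2 ?_⟩
    have h2 : (v : G) = ((s : N) : G)⁻¹ * (((s : N) : G) * v * ((s : N) : G)⁻¹) * ((s : N) : G) := by group
    rw [h2, h1]; group
  let act : MulAction ↥(S : Subgroup N) X :=
    { smul := fun s v => ⟨((s : N) : G) * v * ((s : N) : G)⁻¹, hmem s v⟩
      one_smul := fun v => Subtype.ext (by
        show (((1 : ↥(S : Subgroup N)) : N) : G) * v * (((1 : ↥(S : Subgroup N)) : N) : G)⁻¹ = v
        simp)
      mul_smul := fun s t v => Subtype.ext (by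
        show (((s * t : ↥(S : Subgroup N)) : N) : G) * v * (((s * t : ↥(S : Subgroup N)) : N) : G)⁻¹ =
          ((s : N) : G) * (((t : N) : G) * v * ((t : N) : G)⁻¹) * ((s : N) : G)⁻¹
        push_cast
        group) }
  have hsm : ∀ (s : ↥(S : Subgroup N)) (v : X), ((s • v : X) : G) = ((s : N) : G) * v * ((s : N) : G)⁻¹ :=
    fun _ _ => rfl
  have hst : ∀ v : X, stabilizer ↥(S : Subgroup N) v = ⊥ := by
    intro v
    rw [eq_bot_iff]
    intro s hs
    have h1 := congrArg Subtype.val (mem_stabilizer_iff.1 hs)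
    rw [hsm] at h1
    have h2 : ((s : N) : G) * v = v * ((s : N) : G) := mul_inv_eq_iff_eq_mul.1 h1
    have hv : orderOf (v : G) = r := by
      have h3 : orderOf (v : G) ∣ r := by
        rw [← hx, ← Nat.card_zpowers x]
        exact Subgroup.orderOf_dvd_natCard _ v.2.1
      rcases (Nat.dvd_prime hr).1 h3 with h4 | h4
      · exact absurd (orderOf_eq_one_iff.1 h4) v.2.2
      · exact h4
    obtain ⟨k, hk⟩ := S.isPGroup' s
    have hk' : ((s : N) : G) ^ 3 ^ k = 1 := by
      have := congrArg (fun t : ↥(S : Subgroup N) => ((t : N) : G)) hk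
      simpa using this
    have h5 := (h v hv).eq_one (y := ((s : N) : G)) h2.symm hk'
    rw [mem_bot]
    exact Subtype.ext (Subtype.ext h5)
  have h1 : Nat.card S ∣ Nat.card X := by
    refine ThreeOnTwo.dvd_card_of_index (A := ↥(S : Subgroup N)) fun v => ?_
    rw [hst v, Subgroup.index_bot]
  have h2 : Nat.card X = r - 1 := by
    have h3 : Nat.card X + 1 = r := by
      have h4 : Nat.card (zpowers x) = r := by rw [Nat.card_zpowers, hx]
      have e : (zpowers x) ≃ Option X :=
        { toFun := fun v => if hv : (v : G) = 1 then none else some ⟨v, v.2, hv⟩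
          invFun := fun o => match o with
            | none => 1
            | some v => ⟨v, v.2.1⟩
          left_inv := fun v => by
            by_cases hv : (v : G) = 1
            · simp only [hv, dif_pos]; exact Subtype.ext hv.symm
            · simp only [hv, dif_neg, not_false_eq_true]
          right_inv := fun o => by
            rcases o with _ | v
            · simp
            · simp [v.2.2] }
      have hfin : Finite X := inferInstance
      rw [← h4, Nat.card_congr e, Finite.card_option]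
    omega
  rw [← h2]
  exact hS9.trans h1

/-- **The `3`-part.** -/
theorem three_part {r : ℕ} (hr : r.Prime) (hr9 : ¬ 9 ∣ r - 1) {G : Type u} [Group G] [Finite G]
    (hG : ¬ r ^ 2 ∣ Nat.card G) (hrG : r ∣ Nat.card G) (hNN : NN r G)
    (hS : ∀ (S : Type u) [Group S] [Finite S], IsSimpleGroup S → Nat.card S ∣ Nat.card G → r ∣ Nat.card S →
      ¬ 3 ^ 4 ∣ Nat.card S) : ¬ 3 ^ 5 ∣ Nat.card G := by
  classical
  have i3 : Fact (Nat.Prime 3) := ⟨Nat.prime_three⟩
  have ir : Fact r.Prime := ⟨hr⟩
  obtain ⟨x, hx⟩ := exists_prime_orderOf_dvd_card' r hrG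
  set K : Subgroup G := normalClosure {x} with hK
  have hxK : x ∈ K := subset_normalClosure (Set.mem_singleton x)
  have hKr : r ∣ Nat.card K := by rw [← hx]; exact Subgroup.orderOf_dvd_natCard K hxK
  have hKn : K.Normal := normalClosure_normal
  have hKr2 : ¬ r ^ 2 ∣ Nat.card K := fun h => hG (h.trans (Subgroup.card_subgroup_dvd_card K))
  have hnt : Nontrivial K := by
    by_contra h1
    rw [not_nontrivial_iff_subsingleton] at h1
    rw [Nat.card_unique] at hKr
    exact hr.one_lt.ne' (Nat.dvd_one.1 hKr)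
  obtain ⟨K1, hK1n, hsimp⟩ := exists_max_normal (K := K)
  have hK1r : ¬ r ∣ Nat.card K1 := by
    intro h1
    obtain ⟨y, hy⟩ := exists_prime_orderOf_dvd_card' r h1
    have hle : closure (Group.conjugatesOfSet ({x} : Set G)) ≤ K1.map K.subtype := by
      rw [closure_le]
      intro z hz
      have hzK : z ∈ K := subset_closure hz
      obtain ⟨a, ha, hconj⟩ := Group.mem_conjugatesOfSet_iff.1 hz
      rw [Set.mem_singleton_iff] at ha
      subst ha
      obtain ⟨c, hc⟩ := isConj_iff.1 hconj
      have hzo : orderOf z = r := by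
        rw [← hc, ← hx]
        exact orderOf_injective (MulAut.conj c).toMonoidHom (MulAut.conj c).injective a
      obtain ⟨h, k, hk⟩ := conj_of_order hr hKr2 (x := (y : K)) (y := (⟨z, hzK⟩ : K))
        (by rw [Subgroup.orderOf_coe]; exact hy) (by rw [Subgroup.orderOf_mk]; exact hzo)
      refine ⟨⟨z, hzK⟩, ?_, rfl⟩
      have h2 : h * (⟨z, hzK⟩ : K) * h⁻¹ ∈ K1 := by rw [hk]; exact zpow_mem y.2 k
      have h3 := hK1n.conj_mem _ h2 h⁻¹
      have h4 : h⁻¹ * (h * (⟨z, hzK⟩ : K) * h⁻¹) * h⁻¹⁻¹ = ⟨z, hzK⟩ := by group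
      rwa [h4] at h3
    have htop : K1 = ⊤ := by
      rw [eq_top_iff]
      intro z _
      obtain ⟨w, hw, he⟩ := hle z.2
      have : w = z := Subtype.ext he
      rwa [← this]
    have h5 := hsimp.toNontrivial
    rw [htop] at h5
    have h6 : Subsingleton (K ⧸ (⊤ : Subgroup K)) := QuotientGroup.subsingleton_quotient_top
    exact not_nontrivial_iff_subsingleton.2 h6 h5
  have hK13 : ¬ 3 ∣ Nat.card K1 := inv hr (hNN.subgroup K) hKr K1 hK1r
  have hcQ : Nat.card K1 * Nat.card (K ⧸ K1) = Nat.card K := Subgroup.card_mul_index K1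
  have hrQ : r ∣ Nat.card (K ⧸ K1) := by
    rw [← hcQ] at hKr
    exact (hr.dvd_mul.1 hKr).resolve_left hK1r
  have hQ4 : ¬ 3 ^ 4 ∣ Nat.card (K ⧸ K1) := by
    refine hS (K ⧸ K1) hsimp ?_ hrQ
    exact (Dvd.intro_left _ hcQ).trans (Subgroup.card_subgroup_dvd_card K)
  have hK4 : ¬ 3 ^ 4 ∣ Nat.card K := by
    rw [← hcQ]
    intro h1
    refine hQ4 (Nat.Coprime.dvd_of_dvd_mul_left ?_ h1)
    exact Nat.Coprime.pow_left 4 ((Nat.Prime.coprime_iff_not_dvd Nat.prime_three).2 hK13)
  -- the index
  have hidx : ¬ 9 ∣ K.index := by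
    obtain ⟨P⟩ : Nonempty (Sylow r K) := inferInstance
    set U : Subgroup G := (P : Subgroup K).map K.subtype with hU
    have hF : normalizer (U : Set G) ⊔ K = ⊤ := Sylow.normalizer_sup_eq_top P
    have h2 := Subgroup.relIndex_sup_right (normalizer (U : Set G)) K
    rw [hF, Subgroup.relIndex_top_right] at h2
    -- `U` has order `r`
    have hcU : Nat.card U = r := by
      have h3 : Nat.card U = Nat.card (P : Subgroup K) :=
        (Nat.card_congr (Subgroup.equivMapOfInjective _ K.subtype K.subtype_injective).toEquiv).symm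
      rw [h3]
      obtain ⟨n, hn⟩ := IsPGroup.iff_card.1 P.isPGroup'
      have h4 : r ∣ Nat.card P := P.dvd_card_of_dvd_card hKr
      have h5 : n ≤ 1 := by
        by_contra h6
        refine hKr2 ((pow_dvd_pow r (by omega : 2 ≤ n)).trans ?_)
        rw [← hn]; exact Subgroup.card_subgroup_dvd_card _
      have h6 : n ≠ 0 := by
        rintro rfl
        rw [pow_zero] at hn
        rw [show Nat.card P = 1 from hn] at h4
        exact hr.one_lt.ne' (Nat.dvd_one.1 h4)
      have h7 : n = 1 := by omega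
      rw [hn, h7, pow_one]
    obtain ⟨y, hy⟩ := exists_prime_orderOf_dvd_card' r (hcU.symm ▸ dvd_refl r : r ∣ Nat.card U)
    have hy' : orderOf (y : G) = r := by rw [Subgroup.orderOf_coe]; exact hy
    have hUy : U = zpowers (y : G) := by
      symm
      refine Subgroup.eq_of_le_of_card_ge (by rw [zpowers_le]; exact y.2) ?_
      rw [Nat.card_zpowers, hy', hcU]
    have h3 := normalizer_nine hr hr9 hNN hy'
    rw [← hUy] at h3
    intro h4
    rw [h2] at h4
    exact h3 (h4.trans (Subgroup.relIndex_dvd_card _ _))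
  intro h5
  rw [← Subgroup.card_mul_index K] at h5
  have hk0 : Nat.card K ≠ 0 := Nat.card_pos.ne'
  have hi0 : K.index ≠ 0 := index_ne_zero_of_finite
  have h6 : 5 ≤ padicValNat 3 (Nat.card K * K.index) := (padicValNat_dvd_iff_le (mul_ne_zero hk0 hi0)).1 h5
  rw [padicValNat.mul hk0 hi0] at h6
  have h7 : ¬ 4 ≤ padicValNat 3 (Nat.card K) := fun h => hK4 ((padicValNat_dvd_iff_le hk0).2 h)
  have h8 : ¬ 2 ≤ padicValNat 3 K.index := fun h => hidx ((padicValNat_dvd_iff_le hi0).2 h)
  omega

end Cfsg.Agent.H396.NoNormA
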