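import Mathlib
import Cfsg.Agent.H396.NoNormA
import Cfsg.Agent.H396.ParX
import Cfsg.Agent.H568.OwnCharChev
import Cfsg.Agent.H719.RowTData
import Cfsg.Agent.KFacts.RgdFiltChev
import Cfsg.Agent.OrdDiv.Main
import Cfsg.Agent.S1059

/-!
# `Par 3` for `G₂(3)` (helper396)

A proper subgroup `P` of index not divisible by `9` has order `2 ^ a 3 ^ b`, `b ≥ 5` (elements of orders 7, 13
normalise no `3`-subgroup), so it has a nontrivial normal `3`-subgroup; Borel–Tits.
-/

set_option autoImplicit false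
set_option linter.unusedSectionVars false

namespace Cfsg.Agent.H396.ParG23

open Cfsg Cfsg.Lie
open Subgroup CoxeterSystem Cfsg.Agent.ChevalleyStructure.CoxeterGeom Cfsg.Agent.Tits.Roots Cfsg.Agent.Tits.Core
  Cfsg.Agent.Tits.Exchange Cfsg.Agent.Nodes.Reps Cfsg.Agent.Nodes.BNOf Cfsg.Agent.Nodes.StabComb
  Cfsg.Agent.Nodes.Bruhat Cfsg.Agent.Nodes.RGDLib Cfsg.Agent.Omega.EH3.Kf.Lev
open Cfsg.Agent.ChevalleyStructure Cfsg.Agent.ChevalleyStructure.Elts
  Cfsg.Agent.ChevalleyStructure.RootVec Cfsg.Agent.ChevalleyStructure.RootVecTab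
  Cfsg.Agent.ChevalleyStructure.NPerm Cfsg.Agent.ChevalleyStructure.CoxeterGeomTypes
open Cfsg.Agent.Nodes Cfsg.Agent.Nodes.RGDChev Cfsg.Agent.KFacts.RgdBorelTits
open Cfsg.Agent.H396.Glue Cfsg.Agent.H396.NoNormA Cfsg.Agent.H568

variable {F : Type} [Field F] [Fintype F]

theorem card_T (hF : Fintype.card F = 3) : Nat.card ↥(chevG2.group F) = 4245696 := by
  rw [S1059.result hF]
  norm_num

/-- elements of order `r` in the centraliser-like torus -/
theorem nn_of_hasT (hF : Fintype.card F = 3) [CharP F 3] {r h : ℕ} (hr : r.Prime)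
    (hT : H719.HasT ↥(chevG2.group F) r r) (hr2 : ¬ r ^ 2 ∣ 4245696) (hr3 : r ≠ 3) (hh : h = 3 ∨ h = 6)
    (hord : ∀ k, r ∣ Nat.card F ^ k - 1 → h ∣ k) : NN r ↥(chevG2.group F) := by
  have i3 : Fact (Nat.Prime 3) := ⟨Nat.prime_three⟩
  have ir : Fact r.Prime := ⟨hr⟩
  have hfin : Finite ↥(chevG2.group F) := Nat.finite_of_card_ne_zero (by rw [card_T hF]; norm_num)
  intro x hx
  refine noNorm_G2 3 hr hx ?_ hh hord
  intro y hy hxy
  obtain ⟨x0, hx0, hc⟩ := hT
  obtain ⟨g, k, hk⟩ := conj_of_order hr (by rw [card_T hF]; exact hr2) hx0 hx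
  have hne : g * x * g⁻¹ ≠ 1 := by
    intro h1
    have h2 : x = 1 := by
      have h3 : x = g⁻¹ * (g * x * g⁻¹) * g := by group
      rw [h3, h1]; group
    rw [h2, orderOf_one] at hx
    exact hr.one_lt.ne hx
  have h1 := (hc (g * x * g⁻¹) (by rw [hk]; exact ⟨k, rfl⟩) hne).2 (g * y * g⁻¹) (by
    have e1 : g * y * g⁻¹ * (g * x * g⁻¹) = g * (y * x) * g⁻¹ := by group
    have e2 : g * x * g⁻¹ * (g * y * g⁻¹) = g * (x * y) * g⁻¹ := by group
    rw [e1, e2, hxy])
  have h2 : y ^ r = 1 := by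
    have e : (g * y * g⁻¹) ^ r = g * y ^ r * g⁻¹ := by rw [conj_pow]
    rw [e] at h1
    have h3 : y ^ r = g⁻¹ * (g * y ^ r * g⁻¹) * g := by group
    rw [h3, h1]; group
  have h3 := orderOf_dvd_of_pow_eq_one h2
  rw [hy] at h3
  exact hr3 ((Nat.prime_dvd_prime_iff_eq Nat.prime_three hr).1 h3).symm

theorem ord13 (k : ℕ) (h : 13 ∣ 3 ^ k - 1) : 3 ∣ k := by
  have h1 : 3 ^ k % 13 = 3 ^ (k % 3) % 13 := by
    conv_lhs => rw [← Nat.div_add_mod k 3, pow_add, pow_mul, Nat.mul_mod, Nat.pow_mod]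
    norm_num
  have h2 : 1 ≤ 3 ^ k := Nat.one_le_pow _ _ (by norm_num)
  have h3 : 3 ^ k % 13 = 1 := by omega
  rw [h1] at h3
  have h4 : k % 3 < 3 := Nat.mod_lt _ (by norm_num)
  have h5 : k % 3 = 0 := by
    generalize k % 3 = m at h3 h4
    interval_cases m <;> simp at h3 ⊢
  exact Nat.dvd_of_mod_eq_zero h5

theorem ord7 (k : ℕ) (h : 7 ∣ 3 ^ k - 1) : 6 ∣ k := by
  have h1 : 3 ^ k % 7 = 3 ^ (k % 6) % 7 := by
    conv_lhs => rw [← Nat.div_add_mod k 6, pow_add, pow_mul, Nat.mul_mod, Nat.pow_mod]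
    norm_num
  have h2 : 1 ≤ 3 ^ k := Nat.one_le_pow _ _ (by norm_num)
  have h3 : 3 ^ k % 7 = 1 := by omega
  rw [h1] at h3
  have h4 : k % 6 < 6 := Nat.mod_lt _ (by norm_num)
  have h5 : k % 6 = 0 := by
    generalize k % 6 = m at h3 h4
    interval_cases m <;> simp at h3 ⊢
  exact Nat.dvd_of_mod_eq_zero h5

theorem nn13 (hF : Fintype.card F = 3) [CharP F 3] : NN 13 ↥(chevG2.group F) := by
  have h := H719.hasT_G2_3 (F := F) (q := 3) (N := 13) (Phi := 13) hF (by norm_num) (by norm_num)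
  have hred : H719.red 3 13 = 13 := rfl
  rw [hred] at h
  refine nn_of_hasT hF (by norm_num) h (by norm_num) (by norm_num) (Or.inl rfl) fun k hk => ?_
  rw [Nat.card_eq_fintype_card, hF] at hk
  exact ord13 k hk

theorem nn7 (hF : Fintype.card F = 3) [CharP F 3] : NN 7 ↥(chevG2.group F) := by
  have h := H719.hasT_G2_6 (F := F) (q := 3) (N := 7) (Phi := 7) hF (by norm_num) (by norm_num)
  have hred : H719.red 3 7 = 7 := rfl
  rw [hred] at h
  refine nn_of_hasT hF (by norm_num) h (by norm_num) (by norm_num) (Or.inr rfl) fun k hk => ?_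
  rw [Nat.card_eq_fintype_card, hF] at hk
  exact ord7 k hk

section

variable (Tb : OrdDiv.OrderTable.{0}) (hK : ∀ (S : Type) [Group S] [Finite S] [IsSimpleGroup S], IsKnownSimple' S)
include Tb hK

/-- the `3`-parts of the simple groups of order properly dividing `|G₂(3)|` -/
theorem simple_three {n r : ℕ} (hn : n ∣ 4245696) (hn1 : n < 4245696) (hr : r.Prime) (S : Type) [Group S] [Finite S]
    (hs : IsSimpleGroup S) (hd : Nat.card S ∣ n) (hrS : r ∣ Nat.card S) (hr3 : r ≠ 3) : ¬ 3 ^ 4 ∣ Nat.card S := by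
  intro h4
  have hna : ¬ ∀ a b : S, a * b = b * a := by
    intro hab
    let _ : CommGroup S := { (inferInstance : Group S) with mul_comm := hab }
    have h3 : (Nat.card S).Prime := IsSimpleGroup.prime_card
    have h6 := (Nat.prime_dvd_prime_iff_eq hr h3).1 hrS
    have h5 := (Nat.prime_dvd_prime_iff_eq Nat.prime_three h3).1 ((dvd_pow_self 3 (by norm_num : (4 : ℕ) ≠ 0)).trans h4)
    omega
  obtain ⟨g, hg, -, hc⟩ := OrdDiv.exists_good Tb (hK S) hna (l := [(2, 6), (3, 6), (7, 1), (13, 1)])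
    (N := 4245696) (by decide +kernel) (hd.trans hn)
  have hchk : ((OrdDiv.cands [(2, 6), (3, 6), (7, 1), (13, 1)] 4245696).all fun g =>
      !(decide (3 ^ 4 ∣ OrdDiv.ordN g)) || decide (OrdDiv.ordN g = 4245696)) = true := by decide +kernel
  have h3 := (List.all_eq_true.1 hchk) g hg
  rw [← hc] at h3
  simp only [h4, decide_true, Bool.not_true, Bool.false_or, decide_eq_true_eq] at h3
  have h5 := Nat.le_of_dvd (Nat.pos_of_dvd_of_pos hn (by norm_num)) hd
  omega

/-- **A proper subgroup of index not divisible by `9` has a nontrivial normal `3`-subgroup.** -/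
theorem exists_three (hF : Fintype.card F = 3) [CharP F 3] (P : Subgroup ↥(chevG2.group F)) (hP : P ≠ ⊤)
    (hidx : ¬ 3 ^ 2 ∣ P.index) : ∃ V : Subgroup ↥(chevG2.group F), V ≠ ⊥ ∧ IsPGroup 3 V ∧
      P ≤ normalizer (V : Set ↥(chevG2.group F)) := by
  have hc := card_T hF
  have hfin : Finite ↥(chevG2.group F) := Nat.finite_of_card_ne_zero (by rw [hc]; norm_num)
  have hmul := Subgroup.card_mul_index P
  rw [hc] at hmul
  have hd : Nat.card P ∣ 4245696 := Dvd.intro _ hmul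
  have hi1 : P.index ≠ 1 := fun h => hP (Subgroup.index_eq_one.1 h)
  have hi0 : P.index ≠ 0 := index_ne_zero_of_finite
  have hlt : Nat.card P < 4245696 := by
    have h1 : 0 < Nat.card P := Nat.card_pos
    have h2 : 2 ≤ P.index := by omega
    nlinarith
  have i3 : Fact (Nat.Prime 3) := ⟨Nat.prime_three⟩
  have h5 : 3 ^ 5 ∣ Nat.card P := by
    have hk0 : Nat.card P ≠ 0 := Nat.card_pos.ne'
    rw [padicValNat_dvd_iff_le hk0]
    have h6 : 6 ≤ padicValNat 3 (Nat.card P * P.index) := by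
      rw [← padicValNat_dvd_iff_le (mul_ne_zero hk0 hi0), hmul]
      norm_num
    rw [padicValNat.mul hk0 hi0] at h6
    have h8 : ¬ 2 ≤ padicValNat 3 P.index := fun h => hidx ((padicValNat_dvd_iff_le hi0).2 h)
    omega
  have key : ∀ r : ℕ, r.Prime → r ≠ 3 → ¬ 9 ∣ r - 1 → ¬ r ^ 2 ∣ 4245696 → NN r ↥(chevG2.group F) →
      ¬ r ∣ Nat.card P := by
    intro r hr hr3 hr9 hr2 hN hrP
    exact three_part hr hr9 (G := ↥P) (fun h => hr2 (h.trans hd)) hrP (hN.subgroup P)
      (fun S _ _ hs h1 h2 => simple_three Tb hK hd hlt hr S hs h1 h2 hr3) h5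
  have h7 := key 7 (by norm_num) (by norm_num) (by norm_num) (by norm_num) (nn7 hF)
  have h13 := key 13 (by norm_num) (by norm_num) (by norm_num) (by norm_num) (nn13 hF)
  have hdd : Nat.card P ∣ 2 ^ 6 * 3 ^ 6 := by
    have h1 : Nat.Coprime (Nat.card P) 91 := by
      have h2 : Nat.Coprime (Nat.card P) (7 * 13) := by
        refine Nat.Coprime.mul_right ?_ ?_
        · exact ((Nat.Prime.coprime_iff_not_dvd (by norm_num)).2 h7).symm
        · exact ((Nat.Prime.coprime_iff_not_dvd (by norm_num)).2 h13).symm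
      exact h2
    refine h1.dvd_of_dvd_mul_left ?_
    norm_num
    exact hd
  obtain ⟨V, hVn, hV1, hV⟩ := ThreeOnTwo.exists_three (G := ↥P) hdd h5
  refine ⟨V.map P.subtype, ?_, hV.map _, ?_⟩
  · intro h1
    exact hV1 ((Subgroup.map_eq_bot_iff_of_injective _ P.subtype_injective).1 h1)
  · have h1 := Subgroup.le_normalizer_map P.subtype (H := V)
    rw [Subgroup.normalizer_eq_top_iff.mpr hVn, ← MonoidHom.range_eq_map, Subgroup.range_subtype] at h1
    exact h1

/-- **`Par 3` for `G₂(3)`** -/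
theorem par_G2_three (hF : Fintype.card F = 3) : Par 3 ↥(chevG2.group F) := by
  have i3 : Fact (Nat.Prime 3) := ⟨Nat.prime_three⟩
  have hchar : CharP F 3 := by
    obtain ⟨p, hp⟩ := CharP.exists F
    have hpp : p.Prime := CharP.char_is_prime F p
    obtain ⟨n, -, hn⟩ := FiniteField.card F p
    rw [hF] at hn
    have h1 : 3 ∣ p := Nat.prime_three.dvd_of_dvd_pow (n := n) (by rw [← hn])
    have h2 := (Nat.prime_dvd_prime_iff_eq Nat.prime_three hpp).1 h1
    subst h2
    exact hp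
  have hp : IsType chevG2 2 CoxeterMatrix.G₂ := by simp [IsType, typeList]
  have hW := finite_W hp CoxeterMatrix.G₂.toCoxeterSystem
  have hfin : Finite ↥(chevG2.group F) := Nat.finite_of_card_ne_zero (by rw [card_T hF]; norm_num)
  have hG1 := G1_eq_top hp (K := F) CoxeterMatrix.G₂.toCoxeterSystem
  have hFil := KFacts.RgdFiltChev.filt (K := F) hp CoxeterMatrix.G₂.toCoxeterSystem 3
  refine ParX.par_of_exists (rgd (K := F) hp CoxeterMatrix.G₂.toCoxeterSystem 3) hG1 fun P hP hidx => ?_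
  obtain ⟨V, hV1, hV, hPV⟩ := exists_three Tb hK hF P hP hidx
  obtain ⟨g, J, hJ, -, hle⟩ := borel_tits hFil (by rw [eq_top_iff, ← hG1]; exact le_sup_right) hV hV1
  refine ⟨g⁻¹, J, hJ, ?_⟩
  rw [← cj_le_cj_iff g, cj_cj_inv]
  exact hPV.trans hle

end

end Cfsg.Agent.H396.ParG23
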