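import Mathlib
import Cfsg.Agent.H396.ClEngine
import Cfsg.Agent.H396.CommTab4
import Cfsg.Agent.H436.KFour

/-!
# `SQ` for the classical groups (helper396)
-/

set_option autoImplicit false
set_option linter.unusedSectionVars false

namespace Cfsg.Agent.H396.ClFam

open Cfsg Cfsg.Agent.H396 Cfsg.Agent.H396.Cl Cfsg.Agent.H436 Cfsg.Agent.OrdDiv Module Matrix

theorem not_sq_dvd {p n : ℕ} (hp : p.Prime) (h : Squarefree n) : ¬ p ^ 2 ∣ n := by
  intro h1
  rw [pow_two] at h1
  exact hp.one_lt.ne' (Nat.isUnit_iff.1 (h p h1))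

/-- from the criterion to `SQ` -/
theorem sq_of {p : ℕ} (hp : p.Prime) {G : Type*} [Group G]
    (h : ∀ M : Subgroup G, M ≠ ⊤ → ¬ p ^ 2 ∣ M.index → Der G M) : SQ G :=
  fun M hM hs => Or.inl (h M hM (not_sq_dvd hp hs))

theorem Prim.ne_of_dvd {q e u p : ℕ} (hu : Prim q e u) (hp : p ∣ q) : u ≠ p := by
  rintro rfl
  exact hu.not_dvd hp

theorem char_dvd {F : Type*} [Field F] [Fintype F] {p : ℕ} [CharP F p] : p ∣ Fintype.card F := by
  have := Fact.mk (CharP.char_is_prime F p)
  obtain ⟨n, -, hn⟩ := FiniteField.card F p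
  rw [hn]
  exact dvd_pow_self p n.2.ne'

theorem exists_char (F : Type*) [Field F] [Fintype F] : ∃ (p : ℕ) (_ : CharP F p), p.Prime := by
  obtain ⟨p, hp⟩ := CharP.exists F
  exact ⟨p, hp, CharP.char_is_prime F p⟩

/-! ### linear groups -/

theorem sq_psl {F : Type} [Field F] [Fintype F] {n : ℕ} (hn : 3 ≤ n) (h6 : ¬ (Fintype.card F = 2 ∧ n = 6)) :
    SQ (Matrix.ProjectiveSpecialLinearGroup (Fin n) F) := by
  obtain ⟨p, _, hp⟩ := exists_char F
  have := Fact.mk hp
  obtain ⟨k, rfl⟩ : ∃ k, n = k + 1 := ⟨n - 1, by omega⟩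
  have hPar : Par p (Matrix.ProjectiveSpecialLinearGroup (Fin (k + 1)) F) := (CommTab.hasCG_PSL k (by omega)).par
  have hq : 2 ≤ Fintype.card F := Fintype.one_lt_card
  obtain ⟨u, hu⟩ := exists_prim hq hn h6
  refine sq_of hp fun M hM hidx => ?_
  have hc : den (.psl (k + 1) (Fintype.card F)) * Nat.card (Matrix.ProjectiveSpecialLinearGroup (Fin (k + 1)) F) =
      num (.psl (k + 1) (Fintype.card F)) := by
    have h := S0243.result (F := F) rfl (k + 1) (by omega)
    rw [Fin.prod_univ_eq_prod_range (fun i => Fintype.card F ^ (k + 1) - Fintype.card F ^ i) (k + 1), ← prod_list] at h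
    change Nat.gcd (k + 1) (Fintype.card F - 1) * (Fintype.card F - 1) * _ = glN (k + 1) (Fintype.card F)
    rw [mul_assoc]
    exact h
  refine der_lin (slToMat (k + 1) F) ?_ hPar hu.prime (Prim.ne_of_dvd hu char_dvd) ?_ ?_ M hM hidx
  · intro a b h
    apply Subtype.ext
    exact h
  · intro i h1 h2 h3
    rw [Fintype.card_fin] at h2
    rw [Nat.card_eq_fintype_card] at h3
    refine hu.not_dvd_sub (fun h4 => ?_) h3
    have := Nat.le_of_dvd (by omega) h4
    omega
  · exact psl_prim le_rfl hn hc hu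

/-! ### symplectic groups -/

/-- the alternating form -/
def spForm (m : ℕ) (F : Type*) [Field F] (u v : Fin m ⊕ Fin m → F) : F := u ⬝ᵥ (Matrix.J (Fin m) F *ᵥ v)

theorem frm_sp {m : ℕ} {F : Type*} [Field F] : Frm (spForm m F) (RingEquiv.refl F) where
  add u v w := by unfold spForm; rw [add_dotProduct]
  smul a u w := by unfold spForm; rw [smul_dotProduct, smul_eq_mul]
  add' u v w := by unfold spForm; rw [mulVec_add, dotProduct_add]
  smul' a u w := by unfold spForm; rw [mulVec_smul, dotProduct_smul, smul_eq_mul]; rfl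
  refl u v h := by
    unfold spForm at h ⊢
    rw [dotProduct_comm, ← vecMul_transpose, ← dotProduct_mulVec, Matrix.J_transpose, neg_mulVec, dotProduct_neg,
      h, neg_zero]
  nondeg v h := by
    unfold spForm at h
    have h1 : Matrix.J (Fin m) F *ᵥ v = 0 := by
      funext i
      have := h (Pi.single i 1)
      rwa [single_one_dotProduct] at this
    have h2 : Matrix.J (Fin m) F *ᵥ (Matrix.J (Fin m) F *ᵥ v) = 0 := by rw [h1, mulVec_zero]
    rw [mulVec_mulVec, Matrix.J_squared, neg_mulVec, one_mulVec, neg_eq_zero] at h2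
    exact h2

theorem sq_psp {F : Type} [Field F] [Fintype F] {m p : ℕ} [CharP F p] (hm : 2 ≤ m)
    (h6 : ¬ (Fintype.card F = 2 ∧ m = 3)) (hPar : Par p (PSp m F)) : SQ (PSp m F) := by
  have hp := CharP.char_is_prime F p
  have := Fact.mk hp
  have hq : 2 ≤ Fintype.card F := Fintype.one_lt_card
  obtain ⟨u, hu⟩ := exists_prim (e := 2 * m) hq (by omega) (by omega)
  refine sq_of hp fun M hM hidx => ?_
  have hc : den (.psp m (Fintype.card F)) * Nat.card (PSp m F) = num (.psp m (Fintype.card F)) := by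
    have h1 := S0245.result (F := F) rfl m
    have h2 := S0246.result (F := F) rfl m (by omega)
    have h3 := Subgroup.card_eq_card_quotient_mul_card_subgroup
      (Subgroup.center (Matrix.symplecticGroup (Fin m) F))
    rw [← prod_list (fun i => Fintype.card F ^ (2 * (i + 1)) - 1)] at h1
    rw [h1, h2] at h3
    change Nat.gcd 2 (Fintype.card F - 1) * Nat.card (PSp m F) = Fintype.card F ^ (m ^ 2) * prB (Fintype.card F) m
    rw [mul_comm]
    exact h3.symm
  refine der_frm (f := spForm m F) (σ := RingEquiv.refl F) (Matrix.symplecticGroup (Fin m) F).subtype ?_ ?_ frm_sp ?_ hPar hu.prime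
    (Prim.ne_of_dvd hu char_dvd) ?_ ?_ M hM hidx
  · rw [Fintype.card_sum, Fintype.card_fin]; omega
  · exact Subtype.val_injective
  · intro g u v
    unfold spForm
    have h1 := (SymplecticGroup.mem_iff').1 g.2
    show (g : Matrix _ _ F) *ᵥ u ⬝ᵥ (Matrix.J (Fin m) F *ᵥ ((g : Matrix _ _ F) *ᵥ v)) = _
    rw [← vecMul_transpose, ← dotProduct_mulVec, mulVec_mulVec, mulVec_mulVec, h1]
  · intro i h1 h2 h3
    rw [Fintype.card_sum, Fintype.card_fin] at h2
    rw [Nat.card_eq_fintype_card] at h3
    refine hu.not_dvd_sub (fun h4 => ?_) h3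
    have := Nat.le_of_dvd (by omega) h4
    omega
  · exact psp_prim m (by omega) le_rfl dvd_rfl (by omega) hc hu

/-! ### unitary groups -/

open Cfsg.Agent.LieClassical.HermBasic in
theorem frm_herm {F : Type*} [Field F] [Fintype F] {q n : ℕ} (hF : Fintype.card F = q ^ 2) :
    Frm (hermForm n F q) (conj hF) where
  add u v w := herm_add_left u v w
  smul a u w := herm_smul_left a u w
  add' u v w := herm_add_right hF u v w
  smul' a u w := herm_smul_right a u w
  refl u v h := herm_eq_zero_swap hF h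
  nondeg v h := by
    by_contra hne
    obtain ⟨w, hw⟩ := exists_herm_ne_zero hF hne
    exact hw (herm_eq_zero_swap hF (h w))

open Cfsg.Agent.LieClassical.HermBasic in
theorem sq_psu {F : Type} [Field F] [Fintype F] {n q : ℕ} (hF : Fintype.card F = q ^ 2) (hn : 4 ≤ n)
    (h4 : ¬ (q = 2 ∧ n = 4)) : SQ (PSU n F q) := by
  obtain ⟨p, _, hp⟩ := exists_char F
  have := Fact.mk hp
  have hPar : Par p (PSU n F q) := (CommTab.hasCG_PSU hF hn).par
  have hq : 2 ≤ q := two_le hF
  have hpq : p ∣ q := hp.dvd_of_dvd_pow (by rw [← hF]; exact char_dvd)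
  have hc : den (.psu n q) * Nat.card (PSU n F q) = num (.psu n q) := by
    have h := S0280.result hF n (by omega)
    rw [← prod_list] at h
    change Nat.gcd n (q + 1) * (q + 1) * _ = q ^ (n * (n - 1) / 2) * prU q n
    have h2 : prU q n = ((List.range n).map fun i => if Even i then q ^ (i + 1) + 1 else q ^ (i + 1) - 1).prod := by
      unfold prU
      congr 1
      apply List.map_congr_left
      intro i _
      by_cases h : Even i
      · rw [if_pos h, if_pos]
        rw [Nat.beq_eq]
        exact Nat.even_iff.1 h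
      · rw [if_neg h, if_neg]
        rw [Nat.beq_eq, ← Nat.even_iff]
        exact h
    rw [h2, mul_assoc]
    exact h
  -- the exponent
  obtain ⟨k, hk, hkn, hk6, hodd⟩ : ∃ k, 3 ≤ k ∧ k ≤ n ∧ (n ≤ k + 1 ∧ ¬ (q = 2 ∧ k = 3)) ∧ (k - 1) % 2 = 0 := by
    rcases Nat.even_or_odd n with h1 | h1
    · obtain ⟨c, hc⟩ := h1
      exact ⟨n - 1, by omega, by omega, ⟨by omega, by omega⟩, by omega⟩
    · obtain ⟨c, hc⟩ := h1
      exact ⟨n, by omega, by omega, ⟨by omega, by omega⟩, by omega⟩
  obtain ⟨u, hu⟩ := exists_prim (q := q) (e := 2 * k) hq (by omega) (by omega)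
  refine sq_of hp fun M hM hidx => ?_
  refine der_frm (f := hermForm n F q) (σ := conj hF) ((slToMat n F).comp (SU n F q).subtype) ?_ ?_ (frm_herm hF) ?_
    hPar hu.prime (Prim.ne_of_dvd hu hpq) ?_ ?_ M hM hidx
  · rw [Fintype.card_fin]; omega
  · intro a b h
    apply Subtype.ext
    apply Subtype.ext
    exact h
  · intro g u v
    exact g.2 u v
  · intro i h1 h2 h3
    rw [Fintype.card_fin] at h2
    rw [Nat.card_eq_fintype_card, hF, ← pow_mul] at h3
    refine hu.not_dvd_sub (fun h4 => ?_) h3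
    have := Nat.le_of_dvd (by omega) h4
    omega
  · refine psu_prim_aux (i := k - 1) (by omega) (by omega) hc hu ?_
    unfold fU
    rw [if_pos (by rw [Nat.beq_eq]; exact hodd), show k - 1 + 1 = k by omega]
    refine hu.dvd_add dvd_rfl fun h4 => ?_
    have := Nat.le_of_dvd (by omega) h4
    omega

/-! ### orthogonal groups -/

section Orth

open QuadraticMap Cfsg.Agent.LieClassical Cfsg.Agent.LieClassical.OrthCore Cfsg.Agent.LieClassical.OrthForms

variable {ι : Type} [Fintype ι] [DecidableEq ι] {F : Type*} [Field F]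

theorem frm_polar {Q : QuadraticForm F (ι → F)} (hQ : Nondeg Q) : Frm (fun u v => polar Q u v) (RingEquiv.refl F) where
  add u v w := polar_add_left Q u v w
  smul a u w := by rw [polar_smul_left, smul_eq_mul]
  add' u v w := polar_add_right Q u v w
  smul' a u w := by rw [polar_smul_right, smul_eq_mul]; rfl
  refl u v h := by
    show polar Q v u = 0
    rw [polar_comm]
    exact h
  nondeg v h := hQ v fun y => by rw [polar_comm]; exact h y

/-- the natural representation of `Ω(Q)` -/
def tauO (F : Type*) [Field F] (Q : (ι → F) → F) : Omega F Q →* Matrix ι ι F :=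
  (Units.coeHom (Matrix ι ι F)).comp ((isometryGroup F Q).subtype.comp (Omega F Q).subtype)

theorem tauO_injective (Q : (ι → F) → F) : Function.Injective (tauO F Q) := by
  intro a b h
  apply Subtype.ext
  apply Subtype.ext
  apply Units.ext
  exact h

theorem tauO_iso (Q : (ι → F) → F) (g : Omega F Q) (v : ι → F) : Q (tauO F Q g *ᵥ v) = Q v := g.1.2 v v

theorem polar_tauO {Q : QuadraticForm F (ι → F)} {Q' : (ι → F) → F} (hQ : ⇑Q = Q') (g : Omega F Q') (u v : ι → F) :
    polar Q (tauO F Q' g *ᵥ u) (tauO F Q' g *ᵥ v) = polar Q u v := by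
  subst hQ
  unfold polar
  rw [← mulVec_add]
  have h1 := tauO_iso (F := F) (Q : (ι → F) → F) g (u + v)
  have h2 := tauO_iso (F := F) (Q : (ι → F) → F) g u
  have h3 := tauO_iso (F := F) (Q : (ι → F) → F) g v
  rw [h1, h2, h3]

end Orth

section Orth2

open QuadraticMap Cfsg.Agent.LieClassical Cfsg.Agent.LieClassical.OrthCore Cfsg.Agent.LieClassical.OrthForms

theorem sq_po_odd {F : Type} [Field F] [Fintype F] {m : ℕ} (hm : 3 ≤ m) (ho : Odd (Fintype.card F)) :
    SQ (POmega F (quadFormOdd m F)) := by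
  obtain ⟨p, _, hp⟩ := exists_char F
  have := Fact.mk hp
  have h2 : (2 : F) ≠ 0 := by
    intro h0
    have h4 : CharP F 2 := CharTwo.of_one_ne_zero_of_two_eq_zero one_ne_zero h0
    have h5 : Even (Fintype.card F) := by
      rw [Nat.even_iff]
      exact FiniteField.even_card_of_char_two (ringChar.eq F 2)
    exact (Nat.not_even_iff_odd.2 ho) h5
  have hPar : Par p (POmega F (quadFormOdd m F)) := (CommTab.hasCG_PO_odd h2 (by omega)).par
  have hq : 2 ≤ Fintype.card F := Fintype.one_lt_card
  obtain ⟨u, hu⟩ := exists_prim (e := 2 * m) hq (by omega) (by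
    rintro ⟨h1, -⟩
    rw [h1] at ho
    exact absurd ho (by decide))
  have hc : den (.oodd m (Fintype.card F)) * Nat.card (POmega F (quadFormOdd m F)) = num (.oodd m (Fintype.card F)) := by
    have h := S0292.result (F := F) rfl ho m hm
    rw [← prod_list (fun i => Fintype.card F ^ (2 * (i + 1)) - 1)] at h
    exact h
  refine sq_of hp fun M hM hidx => ?_
  refine der_frm (f := fun u v => polar (oddForm m F) u v) (σ := RingEquiv.refl F) (tauO F (quadFormOdd m F)) ?_
    (tauO_injective _) (frm_polar (nondeg_oddForm m F h2)) ?_ hPar hu.prime (Prim.ne_of_dvd hu char_dvd) ?_ ?_ M hM hidx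
  · rw [Fintype.card_sum, Fintype.card_sum, Fintype.card_fin]; omega
  · intro g u v
    exact polar_tauO (coe_oddForm m F) g u v
  · intro i h1 h2 h3
    rw [Fintype.card_sum, Fintype.card_sum, Fintype.card_fin, Fintype.card_unit] at h2
    rw [Nat.card_eq_fintype_card] at h3
    refine hu.not_dvd_sub (fun h4 => ?_) h3
    have := Nat.le_of_dvd (by omega) h4
    omega
  · exact oodd_prim m (by omega) le_rfl dvd_rfl (by omega) hc hu

theorem sq_po_minus {F : Type} [Field F] [Fintype F] {m : ℕ} {a b : F} (hm : 4 ≤ m)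
    (hab : ∀ z₁ z₂ : F, z₁ ^ 2 + a * z₁ * z₂ + b * z₂ ^ 2 = 0 → z₁ = 0 ∧ z₂ = 0) :
    SQ (POmega F (quadFormMinus (m - 1) F a b)) := by
  obtain ⟨p, _, hp⟩ := exists_char F
  have := Fact.mk hp
  have hPar : Par p (POmega F (quadFormMinus (m - 1) F a b)) :=
    (CommTab.hasCG_PO_minus a b hab (by omega)).par
  have hq : 2 ≤ Fintype.card F := Fintype.one_lt_card
  obtain ⟨u, hu⟩ := exists_prim (e := 2 * m) hq (by omega) (by omega)
  have hc : den (.ominus m (Fintype.card F)) * Nat.card (POmega F (quadFormMinus (m - 1) F a b)) =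
      num (.ominus m (Fintype.card F)) := by
    have h := S0294.result (F := F) rfl m hm a b hab
    rw [← prod_list (fun i => Fintype.card F ^ (2 * (i + 1)) - 1)] at h
    change Nat.gcd 4 (Fintype.card F ^ m + 1) * _ =
      Fintype.card F ^ (m * (m - 1)) * ((Fintype.card F ^ m + 1) * prB (Fintype.card F) (m - 1))
    rw [← mul_assoc (Fintype.card F ^ (m * (m - 1)))]
    exact h
  refine sq_of hp fun M hM hidx => ?_
  refine der_frm (f := fun u v => polar (minusForm (m - 1) F a b) u v) (σ := RingEquiv.refl F)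
    (tauO F (quadFormMinus (m - 1) F a b)) ?_
    (tauO_injective _) (frm_polar (nondeg_minusForm (m - 1) F a b hab)) ?_ hPar hu.prime (Prim.ne_of_dvd hu char_dvd)
    ?_ ?_ M hM hidx
  · rw [Fintype.card_sum, Fintype.card_sum, Fintype.card_fin]; omega
  · intro g u v
    exact polar_tauO (coe_minusForm (m - 1) F a b) g u v
  · intro i h1 h2 h3
    rw [Fintype.card_sum, Fintype.card_sum, Fintype.card_fin, Fintype.card_fin] at h2
    rw [Nat.card_eq_fintype_card] at h3
    refine hu.not_dvd_sub (fun h4 => ?_) h3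
    have := Nat.le_of_dvd (by omega) h4
    omega
  · exact ominus_prim' hm hc hu

end Orth2

end Cfsg.Agent.H396.ClFam
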