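import Mathlib
import Cfsg.Prelude.Def_Transfer
import Cfsg.Agent.S5727

/-!
# Elusive groups with an abelian minimal normal subgroup, degree `pqr` (helper396)
-/

set_option autoImplicit false
set_option linter.unusedSectionVars false
set_option linter.unusedVariables false

namespace Cfsg.Agent.H396.ElAb

open MulAction Subgroup
open scoped Pointwise

section One

variable {G Ω : Type*} [Group G] [MulAction G Ω] [Finite Ω] {N : Subgroup G} [hN : N.Normal] {s : ℕ}

/-- two fixed points in an orbit of `N` of prime length -/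
theorem fix_all (hs : s.Prime) (hab : ∀ a ∈ N, ∀ b ∈ N, a * b = b * a) {b₀ : Ω}
    (hcard : Nat.card (orbit N b₀) = s) {x : G} (h0 : x • b₀ = b₀) {n : G} (hn : n ∈ N) (hne : n • b₀ ≠ b₀)
    (h1 : x • n • b₀ = n • b₀) {m : G} (hm : m ∈ N) : x • m • b₀ = m • b₀ := by
  have h0' : x⁻¹ • b₀ = b₀ := by rw [inv_smul_eq_iff, h0]
  have hx : ∀ m : G, (x * m * x⁻¹) • b₀ = x • m • b₀ := fun m => by rw [mul_smul, mul_smul, h0']
  let S : Subgroup N :=
    { carrier := {m | x • (m : G) • b₀ = (m : G) • b₀}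
      one_mem' := by
        show x • ((1 : N) : G) • b₀ = ((1 : N) : G) • b₀
        rw [OneMemClass.coe_one, one_smul, h0]
      mul_mem' := by
        intro m₁ m₂ h₁ h₂
        show x • ((m₁ * m₂ : N) : G) • b₀ = ((m₁ * m₂ : N) : G) • b₀
        have e1 : x • ((m₁ * m₂ : N) : G) • b₀ = (x * (m₁ : G) * x⁻¹) • x • (m₂ : G) • b₀ := by
          simp only [smul_smul, Subgroup.coe_mul]; congr 1; group
        have h₁' : x • (m₁ : G) • b₀ = (m₁ : G) • b₀ := h₁
        have h₂' : x • (m₂ : G) • b₀ = (m₂ : G) • b₀ := h₂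
        rw [e1, h₂', smul_smul, hab _ (hN.conj_mem _ m₁.2 x) _ m₂.2, mul_smul, hx, h₁', smul_smul,
          hab _ m₂.2 _ m₁.2]
        rfl
      inv_mem' := by
        intro m h₁
        show x • ((m⁻¹ : N) : G) • b₀ = ((m⁻¹ : N) : G) • b₀
        have h₁' : x • (m : G) • b₀ = (m : G) • b₀ := h₁
        rw [← hx, Subgroup.coe_inv]
        have e1 : x * (m : G)⁻¹ * x⁻¹ = (x * (m : G) * x⁻¹)⁻¹ := by group
        rw [e1, inv_smul_eq_iff, smul_smul, hab _ (hN.conj_mem _ m.2 x) _ (inv_mem m.2), mul_smul, hx, h₁',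
          inv_smul_smul] }
  have hle : stabilizer N b₀ ≤ S := by
    intro m hm
    have h2 : (m : G) • b₀ = b₀ := hm
    show x • (m : G) • b₀ = (m : G) • b₀
    rw [h2, h0]
  have hidx : (stabilizer N b₀).index = s := by
    rw [index_stabilizer, ← hcard, Nat.card_coe_set_eq]
  have h2 := Subgroup.relIndex_mul_index hle
  rw [hidx] at h2
  have hST : S = ⊤ := by
    rcases (Nat.dvd_prime hs).1 (Dvd.intro_left _ h2) with h3 | h3
    · exact Subgroup.index_eq_one.1 h3
    · exfalso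
      rw [h3] at h2
      have h4 : (stabilizer N b₀).relIndex S = 1 := Nat.eq_of_mul_eq_mul_right hs.pos (by rw [h2, one_mul])
      rw [Subgroup.relIndex_eq_one] at h4
      exact hne (h4 (show (⟨n, hn⟩ : N) ∈ S from h1))
  have h3 : (⟨m, hm⟩ : N) ∈ S := by rw [hST]; trivial
  exact h3

/-- an element of prime order `u ≠ s` moving a point of an orbit of length `s` -/
theorem dvd_sub_one (hs : s.Prime) (hab : ∀ a ∈ N, ∀ b ∈ N, a * b = b * a) {b : Ω}
    (hcard : Nat.card (orbit N b) = s) {x : G} {u : ℕ} (hu : u.Prime) (hxu : x ^ u = 1) (hus : u ≠ s)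
    (hx : ∀ y ∈ orbit N b, x • y ∈ orbit N b) {z : Ω} (hz : z ∈ orbit N b) (hmv : x • z ≠ z) : u ∣ s - 1 := by
  classical
  have := Fact.mk hu
  have hfin : Fintype (orbit N b) := Fintype.ofFinite _
  let f : Function.End (orbit N b) := fun y => ⟨x • (y : Ω), hx y y.2⟩
  have hf : ∀ (k : ℕ) (y : orbit N b), (((f ^ k : Function.End (orbit N b)) y : orbit N b) : Ω) = x ^ k • (y : Ω) := by
    intro k
    induction k with
    | zero => intro y; rw [pow_zero, pow_zero, one_smul]; rfl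
    | succ k ih =>
      intro y
      rw [pow_succ', pow_succ', mul_smul]
      show x • ((((f ^ k : Function.End (orbit N b)) y : orbit N b) : Ω)) = _
      rw [ih]
  have hfu : f ^ u ^ 1 = 1 := by
    funext y
    apply Subtype.ext
    rw [hf, pow_one, hxu, one_smul]
    rfl
  have hmod := Equiv.Perm.card_fixedPoints_modEq hfu
  rw [← Nat.card_eq_fintype_card, hcard, ← Nat.card_eq_fintype_card] at hmod
  have hsub : Subsingleton (Function.fixedPoints f) := by
    constructor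
    rintro ⟨y₀, hy₀⟩ ⟨y₁, hy₁⟩
    by_contra hne
    have e0 : x • (y₀ : Ω) = y₀ := congrArg Subtype.val hy₀
    have e1 : x • (y₁ : Ω) = y₁ := congrArg Subtype.val hy₁
    have ho : orbit N (y₀ : Ω) = orbit N b := orbit_eq_iff.2 y₀.2
    have h1 : (y₁ : Ω) ∈ orbit N (y₀ : Ω) := by rw [ho]; exact y₁.2
    obtain ⟨n, hn⟩ := h1
    have hn' : (n : G) • (y₀ : Ω) = y₁ := hn
    have h2 : z ∈ orbit N (y₀ : Ω) := by rw [ho]; exact hz
    obtain ⟨m, hm⟩ := h2
    have hm' : (m : G) • (y₀ : Ω) = z := hm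
    apply hmv
    rw [← hm']
    refine fix_all hs hab (by rw [ho]; exact hcard) e0 n.2 (fun h3 => hne ?_) (by rw [hn', e1]) m.2
    rw [hn'] at h3
    exact Subtype.ext (Subtype.ext h3.symm)
  have hne : Nonempty (Function.fixedPoints f) := by
    by_contra hcon
    rw [not_nonempty_iff] at hcon
    rw [Nat.card_of_isEmpty (α := Function.fixedPoints f)] at hmod
    have h1 : u ∣ s := (Nat.modEq_zero_iff_dvd).1 hmod
    exact hus ((Nat.prime_dvd_prime_iff_eq hu hs).1 h1)
  have hone : Nat.card (Function.fixedPoints f) = 1 := Nat.card_eq_one_iff_unique.2 ⟨hsub, hne⟩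
  rw [hone] at hmod
  exact (Nat.modEq_iff_dvd' hs.one_lt.le).1 hmod.symm

end One

section Two

variable {G Ω : Type*} [Group G] [Finite G] [MulAction G Ω] [FaithfulSMul G Ω] [Finite Ω]
  (htrans : IsPretransitive G Ω) (helus : ∀ g : G, (orderOf g).Prime → ∃ ω : Ω, g • ω = ω)
  {N : Subgroup G} [hN : N.Normal] {s : ℕ} (hs : s.Prime) (hab : ∀ a ∈ N, ∀ b ∈ N, a * b = b * a)
  (hexp : ∀ a ∈ N, a ^ s = 1) (horb : ∀ ω : Ω, Nat.card (orbit N ω) = s)

include htrans

/-- the number of orbits of `N` -/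
theorem card_Δ (hs : s.Prime) (horb : ∀ ω : Ω, Nat.card (orbit N ω) = s) (ω₀ : Ω) :
    s * Nat.card (orbit G (orbit N ω₀ : Set Ω)) = Nat.card Ω := by
  have h1 := (IsBlock.orbit_of_normal (G := G) (N := N) ω₀).ncard_block_mul_ncard_orbit_eq
    ⟨ω₀, mem_orbit_self ω₀⟩
  rw [← Nat.card_coe_set_eq, horb ω₀, ← Nat.card_coe_set_eq] at h1
  exact h1

theorem mem_Δ (ω₀ y : Ω) : (orbit N y : Set Ω) ∈ orbit G (orbit N ω₀ : Set Ω) := by
  obtain ⟨g, rfl⟩ := htrans.exists_smul_eq ω₀ y
  exact ⟨g, smul_orbit_eq_orbit_smul N ω₀ g⟩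

include hs hab hexp horb helus in
/-- the union bound -/
theorem le_card (ω₀ : Ω) : s ≤ Nat.card (orbit G (orbit N ω₀ : Set Ω)) := by
  classical
  have := Fact.mk hs
  have hfin : Fintype (orbit G (orbit N ω₀ : Set Ω)) := Fintype.ofFinite _
  have hfN : Fintype N := Fintype.ofFinite _
  -- representatives
  have hrep : ∀ δ : orbit G (orbit N ω₀ : Set Ω), ∃ y : Ω, (δ : Set Ω) = orbit N y := by
    rintro ⟨_, g, rfl⟩
    exact ⟨g • ω₀, smul_orbit_eq_orbit_smul N ω₀ g⟩
  choose y hy using hrep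
  have hcov : (Finset.univ : Finset N) ⊆ Finset.univ.biUnion
      (fun δ : orbit G (orbit N ω₀ : Set Ω) => Finset.univ.filter fun n : N => n ∈ stabilizer N (y δ)) := by
    intro n _
    rw [Finset.mem_biUnion]
    obtain ⟨ω, hω⟩ : ∃ ω : Ω, (n : G) • ω = ω := by
      by_cases h1 : (n : G) = 1
      · exact ⟨ω₀, by rw [h1, one_smul]⟩
      · refine helus n ?_
        rw [orderOf_eq_prime (hexp n n.2) h1]
        exact hs
    refine ⟨⟨_, mem_Δ htrans ω₀ ω⟩, Finset.mem_univ _, ?_⟩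
    rw [Finset.mem_filter]
    refine ⟨Finset.mem_univ _, ?_⟩
    set δ : orbit G (orbit N ω₀ : Set Ω) := ⟨_, mem_Δ htrans ω₀ ω⟩ with hδ
    have h1 : y δ ∈ orbit N ω := by
      have h2 : (orbit N ω : Set Ω) = orbit N (y δ) := hy δ
      rw [h2]; exact mem_orbit_self _
    obtain ⟨m, hm⟩ := h1
    have hm' : (m : G) • ω = y δ := hm
    show (n : G) • y δ = y δ
    rw [← hm', smul_smul, hab _ n.2 _ m.2, mul_smul, hω]
  have h1 := (Finset.card_le_card hcov).trans Finset.card_biUnion_le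
  have h2 : ∀ δ : orbit G (orbit N ω₀ : Set Ω),
      s * (Finset.univ.filter fun n : N => n ∈ stabilizer N (y δ)).card = Fintype.card N := by
    intro δ
    have h3 : (Finset.univ.filter fun n : N => n ∈ stabilizer N (y δ)).card = Nat.card (stabilizer N (y δ)) := by
      rw [Nat.card_eq_fintype_card, Fintype.card_subtype]
    rw [h3, ← horb (y δ), Nat.card_coe_set_eq, ← index_stabilizer, mul_comm, Subgroup.card_mul_index,
      Nat.card_eq_fintype_card]
  have h3 : s * Fintype.card N ≤ Nat.card (orbit G (orbit N ω₀ : Set Ω)) * Fintype.card N := by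
    calc s * Fintype.card N ≤ s * ∑ δ : orbit G (orbit N ω₀ : Set Ω),
          (Finset.univ.filter fun n : N => n ∈ stabilizer N (y δ)).card := Nat.mul_le_mul_left _ (by
            rw [← Finset.card_univ]; exact h1)
      _ = ∑ δ : orbit G (orbit N ω₀ : Set Ω), Fintype.card N := by
          rw [Finset.mul_sum]; exact Finset.sum_congr rfl fun δ _ => h2 δ
      _ = _ := by rw [Finset.sum_const, Finset.card_univ, smul_eq_mul, Nat.card_eq_fintype_card]
  exact Nat.le_of_mul_le_mul_right h3 Fintype.card_pos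

include helus in
/-- the largest prime divisor of the number of orbits divides the order of the kernel -/
theorem dvd_ker (ω₀ : Ω) {u v : ℕ} (hu : u.Prime) (hv : 1 ≤ v) (hvu : v ≤ u)
    (hc : Nat.card (orbit G (orbit N ω₀ : Set Ω)) = v * u) :
    u ∣ Nat.card (toPermHom G (orbit G (orbit N ω₀ : Set Ω))).ker := by
  classical
  set φ := toPermHom G (orbit G (orbit N ω₀ : Set Ω)) with hφ
  have hfin : Fintype (orbit G (orbit N ω₀ : Set Ω)) := Fintype.ofFinite _
  have hf : FaithfulSMul φ.range (orbit G (orbit N ω₀ : Set Ω)) := ⟨fun h => by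
    apply Subtype.ext
    apply Equiv.ext
    intro x
    exact h x⟩
  have htr : IsPretransitive φ.range (orbit G (orbit N ω₀ : Set Ω)) := ⟨fun a b => by
    obtain ⟨g, hg⟩ := exists_smul_eq G a b
    exact ⟨⟨φ g, g, rfl⟩, hg⟩⟩
  obtain ⟨σ, hσ, hfix'⟩ := Cfsg.Agent.S5727.result htr u v hu hv hvu (by
    rw [← Nat.card_eq_fintype_card, hc])
  obtain ⟨g, hgσ⟩ := σ.2
  have hg : orderOf (φ g) = u := by rw [hgσ, Subgroup.orderOf_coe]; exact hσ
  have hfix : ∀ δ : orbit G (orbit N ω₀ : Set Ω), φ g • δ ≠ δ := by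
    intro δ h
    rw [hgσ] at h
    exact hfix' δ h
  by_contra hK
  -- `g ^ (o / u)` has order `u`
  have h1 : u ∣ orderOf g := hg ▸ orderOf_map_dvd φ g
  obtain ⟨k, hk⟩ := h1
  have hk0 : 0 < k := Nat.pos_of_ne_zero fun h0 => by rw [h0, mul_zero] at hk; exact (orderOf_pos g).ne' hk
  have h2 : orderOf (g ^ u) = k := by
    rw [orderOf_pow_of_dvd hu.ne_zero ⟨k, hk⟩, hk, Nat.mul_div_cancel_left _ hu.pos]
  have hgK : g ^ u ∈ φ.ker := by
    rw [MonoidHom.mem_ker, map_pow, ← hg, pow_orderOf_eq_one]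
  have hku : ¬ u ∣ k := by
    intro h3
    apply hK
    have h4 : orderOf (⟨g ^ u, hgK⟩ : φ.ker) ∣ Nat.card φ.ker := orderOf_dvd_natCard _
    rw [Subgroup.orderOf_mk, h2] at h4
    exact h3.trans h4
  have h3 : orderOf (g ^ k) = u := by
    rw [orderOf_pow_of_dvd hk0.ne' ⟨u, by rw [hk, mul_comm]⟩, hk, Nat.mul_div_cancel _ hk0]
  obtain ⟨ω, hω⟩ := helus (g ^ k) (by rw [h3]; exact hu)
  -- `g ^ k` fixes an orbit, so `g` does
  let δ : orbit G (orbit N ω₀ : Set Ω) := ⟨_, mem_Δ htrans ω₀ ω⟩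
  have h4 : φ g ^ k • δ = δ := by
    rw [← map_pow]
    show g ^ k • δ = δ
    apply Subtype.ext
    show g ^ k • (orbit N ω : Set Ω) = orbit N ω
    rw [smul_orbit_eq_orbit_smul, hω]
  have hcop : Nat.Coprime k (orderOf (φ g)) := by
    rw [hg]
    exact ((Nat.Prime.coprime_iff_not_dvd hu).2 hku).symm
  obtain ⟨j, hj⟩ := exists_pow_eq_self_of_coprime hcop
  refine hfix δ ?_
  show φ g • δ = δ
  have h5 : ∀ j : ℕ, (φ g ^ k) ^ j • δ = δ := by
    intro j
    induction j with
    | zero => rw [pow_zero, one_smul]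
    | succ j ih => rw [pow_succ, mul_smul, h4, ih]
  have h6 := h5 j
  rwa [hj] at h6

include hs hab horb in
theorem dvd_of_dvd_ker (ω₀ : Ω) {u : ℕ} (hu : u.Prime) (hus : u ≠ s)
    (hd : u ∣ Nat.card (toPermHom G (orbit G (orbit N ω₀ : Set Ω))).ker) : u ∣ s - 1 := by
  have := Fact.mk hu
  obtain ⟨⟨x, hx⟩, hxo⟩ := exists_prime_orderOf_dvd_card' u hd
  rw [Subgroup.orderOf_mk] at hxo
  have hx1 : x ≠ 1 := by
    rintro rfl
    rw [orderOf_one] at hxo
    exact hu.one_lt.ne hxo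
  obtain ⟨z, hz⟩ : ∃ z : Ω, x • z ≠ z := by
    by_contra hcon
    push Not at hcon
    exact hx1 (FaithfulSMul.eq_of_smul_eq_smul (α := Ω) fun a => by rw [hcon a, one_smul])
  refine dvd_sub_one hs hab (horb z) hu (hxo ▸ pow_orderOf_eq_one x) hus ?_ (mem_orbit_self z) hz
  intro y hy
  let δ : orbit G (orbit N ω₀ : Set Ω) := ⟨_, mem_Δ htrans ω₀ z⟩
  have h1 : x • δ = δ := by
    have h2 := MonoidHom.mem_ker.1 hx
    exact congrArg (fun σ : Equiv.Perm (orbit G (orbit N ω₀ : Set Ω)) => σ δ) h2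
  have h2 : x • (orbit N z : Set Ω) = orbit N z := congrArg Subtype.val h1
  have h3 : x • y ∈ x • (orbit N z : Set Ω) := Set.smul_mem_smul_set hy
  rwa [h2] at h3

end Two

/-- the arithmetic of degree `pqr` -/
theorem main {G Ω : Type*} [Group G] [Finite G] [MulAction G Ω] [FaithfulSMul G Ω] [Finite Ω]
    (htrans : IsPretransitive G Ω) {p q r : ℕ} (hp : p.Prime) (hq : q.Prime) (hr : r.Prime)
    (hpq : q < p) (hqr : r < q) (hcard : Nat.card Ω = p * q * r)
    (helus : ∀ g : G, (orderOf g).Prime → ∃ ω : Ω, g • ω = ω) (N : Subgroup G) [hN : N.Normal] {s : ℕ}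
    (hs : s.Prime) (hE : Cfsg.IsElementaryAbelian s N) (horb : ∀ ω : Ω, Nat.card (orbit N ω) = s) :
    s = p ∧ ∃ t : ℕ, p - 1 = q * t ∧ Even t ∧ t < r := by
  have hab : ∀ a ∈ N, ∀ b ∈ N, a * b = b * a := by
    intro a ha b hb
    have := hE.1.is_comm.comm (⟨a, ha⟩ : N) ⟨b, hb⟩
    exact congrArg Subtype.val this
  have hr2 := hr.two_le
  have hpos : 0 < Nat.card Ω := by rw [hcard]; exact Nat.mul_pos (Nat.mul_pos hp.pos hq.pos) hr.pos
  have hne : Nonempty Ω := (Nat.card_pos_iff.1 hpos).1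
  obtain ⟨ω₀⟩ := hne
  have hΔ := card_Δ htrans hs horb ω₀
  rw [hcard] at hΔ
  have hle := le_card htrans helus hs hab hE.2 horb ω₀
  -- a divisor `u` of the number of orbits divides `s - 1`
  have key : ∀ u v : ℕ, u.Prime → 1 ≤ v → v ≤ u → u ≠ s →
      Nat.card (orbit G (orbit N ω₀ : Set Ω)) = v * u → u ∣ s - 1 := fun u v hu hv hvu hus hc =>
    dvd_of_dvd_ker htrans hs hab horb ω₀ hu hus (dvd_ker htrans helus ω₀ hu hv hvu hc)
  have hsd : s ∣ p * q * r := ⟨_, hΔ.symm⟩
  have hle_of : ∀ u : ℕ, u ∣ s - 1 → u < s := fun u hu => by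
    have h1 := Nat.le_of_dvd (by have := hs.two_le; omega) hu
    have := hs.two_le
    omega
  rcases (hs.dvd_mul).1 hsd with h1 | h1
  · rcases (hs.dvd_mul).1 h1 with h2 | h2
    · -- `s = p`
      have hsp : s = p := (Nat.prime_dvd_prime_iff_eq hs hp).1 h2
      subst hsp
      refine ⟨rfl, ?_⟩
      have hc : Nat.card (orbit G (orbit N ω₀ : Set Ω)) = r * q := by
        have h3 : s * Nat.card (orbit G (orbit N ω₀ : Set Ω)) = s * (r * q) := by rw [hΔ]; ring
        exact Nat.eq_of_mul_eq_mul_left hs.pos h3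
      obtain ⟨t, ht⟩ := key q r hq hr.one_lt.le hqr.le hpq.ne hc
      refine ⟨t, ht, ?_, ?_⟩
      · have hp1 : Even (s - 1) := by
          have : Odd s := hs.odd_of_ne_two (by omega)
          obtain ⟨k, hk⟩ := this
          exact ⟨k, by omega⟩
        have hq1 : Odd q := hq.odd_of_ne_two (by omega)
        rw [ht, Nat.even_mul] at hp1
        exact hp1.resolve_left (Nat.not_even_iff_odd.2 hq1)
      · rw [hc] at hle
        have h4 : q * t < q * r := by
          rw [← ht, mul_comm q r]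
          have := hs.two_le
          omega
        exact Nat.lt_of_mul_lt_mul_left h4
    · exfalso
      have hsq : s = q := (Nat.prime_dvd_prime_iff_eq hs hq).1 h2
      subst hsq
      have hc : Nat.card (orbit G (orbit N ω₀ : Set Ω)) = r * p := by
        have h3 : s * Nat.card (orbit G (orbit N ω₀ : Set Ω)) = s * (r * p) := by rw [hΔ]; ring
        exact Nat.eq_of_mul_eq_mul_left hs.pos h3
      have := hle_of _ (key p r hp hr.one_lt.le (by omega) hpq.ne' hc)
      omega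
  · exfalso
    have hsr : s = r := (Nat.prime_dvd_prime_iff_eq hs hr).1 h1
    subst hsr
    have hc : Nat.card (orbit G (orbit N ω₀ : Set Ω)) = q * p := by
      have h3 : s * Nat.card (orbit G (orbit N ω₀ : Set Ω)) = s * (q * p) := by rw [hΔ]; ring
      exact Nat.eq_of_mul_eq_mul_left hs.pos h3
    have := hle_of _ (key p q hp hq.one_lt.le hpq.le (by omega) hc)
    omega

end Cfsg.Agent.H396.ElAb
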