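import Mathlib
import Cfsg.Agent.H396.ElAb
import Cfsg.Agent.H394.SqFinal

/-!
# Elusive groups of degree `pqr` and `2pq` (helper396)

S3558 and S3579 from `SQ` for the simple subgroups.
-/

set_option autoImplicit false

namespace Cfsg.Agent.H396.ElFinal

open MulAction Subgroup

theorem squarefree_three {p q r : ℕ} (hp : p.Prime) (hq : q.Prime) (hr : r.Prime) (hpq : q < p) (hqr : r < q) :
    Squarefree (p * q * r) := by
  have h1 : Nat.Coprime p q := (Nat.coprime_primes hp hq).2 hpq.ne'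
  have h2 : Nat.Coprime p r := (Nat.coprime_primes hp hr).2 (hqr.trans hpq).ne'
  have h3 : Nat.Coprime q r := (Nat.coprime_primes hq hr).2 hqr.ne'
  rw [Nat.squarefree_mul (Nat.Coprime.mul_left h2 h3), Nat.squarefree_mul h1]
  exact ⟨⟨hp.prime.squarefree, hq.prime.squarefree⟩, hr.prime.squarefree⟩

theorem degree_pqr {G Ω : Type*} [Group G] [Finite G] [MulAction G Ω] [FaithfulSMul G Ω] [Finite Ω]
    (htrans : MulAction.IsPretransitive G Ω) (p q r : ℕ) (hp : p.Prime) (hq : q.Prime) (hr : r.Prime)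
    (hpq : q < p) (hqr : r < q) (hcard : Nat.card Ω = p * q * r)
    (helus : ∀ g : G, (orderOf g).Prime → ∃ ω : Ω, g • ω = ω)
    (N : Subgroup G) (hN : N.Normal) (hN1 : N ≠ ⊥) (hmin : ∀ M : Subgroup G, M.Normal → M ≤ N → M = ⊥ ∨ M = N)
    (hSQ : ∀ S : Subgroup G, IsSimpleGroup S → (∃ a b : S, a * b ≠ b * a) → SQ S) :
    Cfsg.IsElementaryAbelian p N ∧ (∀ ω : Ω, Nat.card (MulAction.orbit N ω) = p) ∧
    ∃ t : ℕ, p - 1 = q * t ∧ Even t ∧ t < r := by
  obtain ⟨s, hs, hE, horb⟩ := Cfsg.Agent.H394.SqFinal.of_SQ htrans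
    (by rw [hcard]; exact squarefree_three hp hq hr hpq hqr) helus N hN hN1 hmin hSQ
  obtain ⟨rfl, ht⟩ := ElAb.main htrans hp hq hr hpq hqr hcard helus N hs hE fun ω => (horb ω).1
  exact ⟨hE, fun ω => (horb ω).1, ht⟩

theorem exists_minimal {G : Type*} [Group G] [Finite G] [Nontrivial G] :
    ∃ N : Subgroup G, N.Normal ∧ N ≠ ⊥ ∧ ∀ M : Subgroup G, M.Normal → M ≤ N → M = ⊥ ∨ M = N := by
  classical
  have h1 : {N : Subgroup G | N.Normal ∧ N ≠ ⊥}.Nonempty := ⟨⊤, inferInstance, top_ne_bot⟩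
  obtain ⟨N, hN⟩ := (Set.toFinite {N : Subgroup G | N.Normal ∧ N ≠ ⊥}).exists_minimal h1
  refine ⟨N, hN.prop.1, hN.prop.2, fun M hM hMN => ?_⟩
  by_cases hM1 : M = ⊥
  · exact Or.inl hM1
  · exact Or.inr (le_antisymm hMN (hN.le_of_le ⟨hM, hM1⟩ hMN))

theorem degree_two_pq {G Ω : Type*} [Group G] [Finite G] [MulAction G Ω] [FaithfulSMul G Ω] [Finite Ω]
    (htrans : MulAction.IsPretransitive G Ω) (p q : ℕ) (hp : p.Prime) (hq : q.Prime) (hp2 : p ≠ 2) (hq2 : q ≠ 2)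
    (hpq : p ≠ q) (hcard : Nat.card Ω = 2 * p * q)
    (hSQ : ∀ S : Subgroup G, IsSimpleGroup S → (∃ a b : S, a * b ≠ b * a) → SQ S) :
    ∃ g : G, (orderOf g).Prime ∧ ∀ ω : Ω, g • ω ≠ ω := by
  by_contra hcon
  push Not at hcon
  have hne : Nontrivial G := by
    by_contra h1
    rw [not_nontrivial_iff_subsingleton] at h1
    have hpos : 0 < Nat.card Ω := by
      rw [hcard]; exact Nat.mul_pos (Nat.mul_pos two_pos hp.pos) hq.pos
    obtain ⟨ω⟩ := (Nat.card_pos_iff.1 hpos).1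
    have h2 : Nat.card Ω = 1 := by
      rw [Nat.card_eq_one_iff_unique]
      refine ⟨⟨fun a b => ?_⟩, ⟨ω⟩⟩
      obtain ⟨g, rfl⟩ := htrans.exists_smul_eq a b
      rw [Subsingleton.elim g 1, one_smul]
    rw [hcard] at h2
    have := Nat.eq_one_of_mul_eq_one_right h2
    exact hq.one_lt.ne' (Nat.eq_one_of_mul_eq_one_left h2)
  obtain ⟨N, hN, hN1, hmin⟩ := exists_minimal (G := G)
  have hp3 : 2 < p := lt_of_le_of_ne hp.two_le (Ne.symm hp2)
  have hq3 : 2 < q := lt_of_le_of_ne hq.two_le (Ne.symm hq2)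
  rcases lt_or_gt_of_ne hpq with h | h
  · obtain ⟨-, -, t, ht, hte, ht2⟩ := degree_pqr htrans q p 2 hq hp Nat.prime_two h hp3 (by rw [hcard]; ring) hcon N
      hN hN1 hmin hSQ
    obtain ⟨k, hk⟩ := hte
    have : t = 0 := by omega
    rw [this, mul_zero] at ht
    omega
  · obtain ⟨-, -, t, ht, hte, ht2⟩ := degree_pqr htrans p q 2 hp hq Nat.prime_two h hq3 (by rw [hcard]; ring) hcon N
      hN hN1 hmin hSQ
    obtain ⟨k, hk⟩ := hte
    have : t = 0 := by omega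
    rw [this, mul_zero] at ht
    omega

end Cfsg.Agent.H396.ElFinal
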