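import Mathlib
import Cfsg.Agent.H394.SqSporBase
import Cfsg.Agent.H396.GlueFix
import Cfsg.Agent.OrdDiv.Main

/-!
# The glue argument for subgroups of square-free index (helper396)
-/

set_option autoImplicit false

namespace Cfsg.Agent.H396.Glue

open Subgroup MulAction Cfsg Cfsg.Agent.OrdDiv

universe w

/-- from the order engine -/
theorem noS_of {N u v : ℕ} (Tb : OrderTable.{w})
    (hK : ∀ (S : Type w) [Group S] [Finite S] [IsSimpleGroup S], IsKnownSimple' S) {l : List (ℕ × ℕ)}
    (hl : valid l N = true) (hu : u.Prime) (hv : v.Prime) (huv : u ≠ v)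
    (h : ((cands l N).all fun g => !(decide (u ∣ ordN g) && decide (v ∣ ordN g))) = true) : NoS.{w} N u v := by
  intro S _ _ hs hd huS hvS
  have hna : ¬ ∀ a b : S, a * b = b * a := by
    intro hab
    let _ : CommGroup S := { (inferInstance : Group S) with mul_comm := hab }
    have h1 : (Nat.card S).Prime := IsSimpleGroup.prime_card
    exact huv (((Nat.prime_dvd_prime_iff_eq hu h1).1 huS).trans ((Nat.prime_dvd_prime_iff_eq hv h1).1 hvS).symm)
  obtain ⟨g, hg, -, hc⟩ := exists_good Tb (hK S) hna hl hd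
  have h1 := (List.all_eq_true.1 h) g hg
  rw [← hc] at h1
  simp [huS, hvS] at h1

open scoped Nat in
/-- the possible indices -/
def idxChk (N W p : ℕ) (D : List ℕ) : Bool :=
  (List.range (W + 1)).all fun d => decide (d < p) || !decide (d ∣ W) || !decide (N ∣ d !) || D.contains d

open scoped Nat in
theorem of_idxChk {N W p : ℕ} {D : List ℕ} (h : idxChk N W p D = true) (d : ℕ) (h1 : d < W + 1) (h2 : p ≤ d)
    (h3 : d ∣ W) (h4 : N ∣ d !) : d ∈ D := by
  have h5 := (List.all_eq_true.1 h) d (List.mem_range.2 h1)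
  simp only [h3, h4, decide_true, Bool.not_true, Bool.or_false, Bool.or_eq_true, decide_eq_true_eq] at h5
  rcases h5 with h5 | h5
  · omega
  · exact List.contains_iff_mem.1 h5

/-- the powers of `u` dividing `N` are not `1` modulo `v` -/
def powChk (u v N : ℕ) : Bool :=
  (List.range 64).all fun j => !decide (u ^ (j + 1) ∣ N) || !decide (v ∣ u ^ (j + 1) - 1)

theorem of_powChk {u v N : ℕ} (hu : u.Prime) (hN0 : 0 < N) (hN : N < 2 ^ 64) (h : powChk u v N = true) (j : ℕ)
    (hj : 1 ≤ j) (hd : u ^ j ∣ N) : ¬ v ∣ u ^ j - 1 := by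
  have h1 : 2 ^ j < 2 ^ 64 := lt_of_le_of_lt
    ((Nat.pow_le_pow_left hu.two_le j).trans (Nat.le_of_dvd hN0 hd)) hN
  have h2 : j < 64 := (Nat.pow_lt_pow_iff_right (by norm_num)).1 h1
  have h3 := (List.all_eq_true.1 h) (j - 1) (List.mem_range.2 (by omega))
  have h4 : j - 1 + 1 = j := by omega
  rw [h4] at h3
  simpa [hd] using h3

/-- the check of the numbers of fixed points -/
def fixChk (N n u v : ℕ) : Bool :=
  (List.range n).all fun f => (List.range n).all fun g =>
    !(f % u == n % u && g % v == n % v && (N % (u ^ 2) == 0 || N % f == 0) && (N % (v ^ 2) == 0 || N % g == 0)) ||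
      decide (f + g < n)

theorem false_of_glue {T : Type w} [Group T] [Finite T] [IsSimpleGroup T] {M : Subgroup T} (hM : M ≠ ⊤)
    (hder : ¬ Der T M) {N N' n u v : ℕ} (hN : Nat.card T = N) (hn : M.index = n) (hN' : N' * n = N)
    (hu : u.Prime) (hv : v.Prime) (huv : u ≠ v) (hS : NoS.{w} N' u v) (h64 : N' < 2 ^ 64)
    (h1 : powChk u v N' = true) (h2 : powChk v u N' = true) (huN : u ∣ N) (hvN : v ∣ N) (hnuv : n < u * v)
    (hc : fixChk N n u v = true) : False := by
  have huM : u ∣ Nat.card M := by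
    by_contra h
    exact hder (der_of_prime hu (by rw [hN]; exact huN) h)
  have hvM : v ∣ Nat.card M := by
    by_contra h
    exact hder (der_of_prime hv (by rw [hN]; exact hvN) h)
  have hn0 : 0 < n := by
    rw [← hn]; exact Nat.pos_of_ne_zero index_ne_zero_of_finite
  have hMN : Nat.card M = N' := by
    have h3 := Subgroup.card_mul_index M
    rw [hN, hn, ← hN'] at h3
    exact Nat.eq_of_mul_eq_mul_right hn0 h3
  have hN'0 : 0 < N' := by rw [← hMN]; exact Nat.card_pos
  obtain ⟨x, y, hx, hy, hxy⟩ := glue hN'0 hu hv huv (of_powChk hu hN'0 h64 h1) (of_powChk hv hN'0 h64 h2) hS M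
    (by rw [hMN]) huM hvM
  -- the action on the cosets
  have hcard : Nat.card (T ⧸ M) = n := hn
  have htr : IsPretransitive T (T ⧸ M) := inferInstance
  have fix : ∀ {r : ℕ} (hr : r.Prime) (z : M) (hz : orderOf z = r),
      Nat.card (fixedBy (T ⧸ M) (z : T)) < n ∧ Nat.card (fixedBy (T ⧸ M) (z : T)) % r = n % r ∧
        (N % (r ^ 2) = 0 ∨ N % Nat.card (fixedBy (T ⧸ M) (z : T)) = 0) := by
    intro r hr z hz
    have hzT : orderOf (z : T) = r := by rw [Subgroup.orderOf_coe]; exact hz
    have hz1 : (z : T) ≠ 1 := by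
      intro h
      rw [h, orderOf_one] at hzT
      exact hr.one_lt.ne hzT
    refine ⟨?_, ?_, ?_⟩
    · obtain ⟨ω, hω⟩ := H394.SqSporBase.exists_moved hM hz1
      have h3 : Nat.card (T ⧸ M) = (Set.univ : Set (T ⧸ M)).ncard := (Set.ncard_univ _).symm
      rw [← hcard, h3, Nat.card_coe_set_eq]
      refine Set.ncard_lt_ncard ?_ (Set.toFinite _)
      refine ⟨Set.subset_univ _, fun h => hω ?_⟩
      exact h (Set.mem_univ ω)
    · have h3 := card_fixed_mod (Ω := T ⧸ M) hr (x := (z : T)) (by rw [← hzT]; exact pow_orderOf_eq_one _)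
      rw [hcard] at h3
      exact h3.symm
    · by_cases h3 : r ^ 2 ∣ N
      · exact Or.inl (Nat.mod_eq_zero_of_dvd h3)
      · right
        refine Nat.mod_eq_zero_of_dvd ?_
        rw [← hN]
        refine card_fixed_dvd (Ω := T ⧸ M) htr hr (by rw [hN]; exact h3) hzT (α := ((1 : T) : T ⧸ M)) ?_
        rw [MulAction.Quotient.smul_coe, smul_eq_mul, mul_one, QuotientGroup.eq, mul_one]
        exact inv_mem z.2
  obtain ⟨a1, a2, a3⟩ := fix hu x hx
  obtain ⟨b1, b2, b3⟩ := fix hv y hy
  have h4 := (List.all_eq_true.1 ((List.all_eq_true.1 hc) _ (List.mem_range.2 a1))) _ (List.mem_range.2 b1)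
  have h5 : Nat.card (fixedBy (T ⧸ M) (x : T)) + Nat.card (fixedBy (T ⧸ M) (y : T)) < n := by
    rw [Bool.or_eq_true] at h4
    rcases h4 with h4 | h4
    · exfalso
      rw [Bool.not_eq_true', ← Bool.not_eq_true] at h4
      apply h4
      rw [Bool.and_eq_true, Bool.and_eq_true, Bool.and_eq_true, Bool.or_eq_true, Bool.or_eq_true, beq_iff_eq,
        beq_iff_eq, beq_iff_eq, beq_iff_eq, beq_iff_eq, beq_iff_eq]
      exact ⟨⟨⟨a2, b2⟩, a3⟩, b3⟩
    · exact of_decide_eq_true h4
  have h6 := card_le_add (Ω := T ⧸ M) hu hv huv (x := (x : T)) (y := (y : T))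
    (by rw [← hx, ← Subgroup.orderOf_coe]; exact pow_orderOf_eq_one _)
    (by rw [← hy, ← Subgroup.orderOf_coe]; exact pow_orderOf_eq_one _) (congrArg Subtype.val hxy)
    (by rw [hcard]; exact hnuv)
  rw [hcard] at h6
  omega

end Cfsg.Agent.H396.Glue
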