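import Mathlib
import Cfsg.Agent.H396.CommTab1
import Cfsg.Agent.H396.ParX

/-!
# `Par` for the symplectic groups of rank at least 3, every field (helper396)
-/

set_option autoImplicit false
set_option linter.unusedSectionVars false

namespace Cfsg.Agent.H396.ParSp2

open Cfsg CoxeterSystem
open Cfsg.Agent.ChevalleyStructure.CoxeterGeom Cfsg.Agent.Tits.Roots
open Cfsg.Agent.Nodes Cfsg.Agent.Nodes.TypeC
open Cfsg.Agent.Nodes.Comb Cfsg.Agent.Nodes.Reps Cfsg.Agent.Nodes.WittRoot Cfsg.Agent.Nodes.BNOf
open Cfsg.Agent.Nodes.RGDLib Cfsg.Agent.Nodes.WittAll Cfsg.Agent.Nodes.WittU Cfsg.Agent.Nodes.RGDChev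
open Cfsg.Agent.TitsThree Cfsg.Agent.TitsThree.Siegel Cfsg.Agent.TitsThree.SiegelGen
  Cfsg.Agent.TitsThree.WittFrame Cfsg.Agent.TitsThree.WBridge Cfsg.Agent.TitsThree.WittWeyl
  Cfsg.Agent.TitsThree.FrameCN
open Cfsg.Agent.LieClassical.HermBasic
open Cfsg.Agent.Omega.EH3.Kf Cfsg.Agent.Omega.EH3.Kf.TwC Cfsg.Agent.Omega.EH3.Kf.TwWitt

section Model

variable {F : Type*} [Field F] {V : Type*} [AddCommGroup V] [Module F V] {H : HForm F V} {n : ℕ}
  {Fr : Frame H (Fin n)} {K : Type*} [Group K] {p : ℕ} {W : Type*} [Group W]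

theorem cgx (cs : CoxeterSystem (CoxeterMatrix.B n) W) (M : Model Fr K) {p0 : Fr.Adm} (hp0 : p0.c ≠ 0)
    (hn : 3 ≤ n) : ∃ (a b : Fin n) (d d' : Fin n → ℤ), ParX.CGX cs (isCartan n) (Nodes.WittModel.X M) a b d d' := by
  set X := Nodes.WittModel.X M with hX
  set U := RGD.Sup X (RGD.Pos cs (isCartan n)) with hU
  have hle : ∀ {z}, z ∈ RGD.Pos cs (isCartan n) → X z ≤ U := fun hz => RGD.le_Sup hz
  have hcom : ∀ {z z'}, z ∈ RGD.Pos cs (isCartan n) → z' ∈ RGD.Pos cs (isCartan n) → ⁅X z, X z'⁆ ≤ ⁅U, U⁆ :=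
    fun hz hz' => Subgroup.commutator_mono (hle hz) (hle hz')
  let a : Fin n := ⟨n - 2, by omega⟩
  let b : Fin n := ⟨n - 1, by omega⟩
  let c : Fin n := ⟨n - 3, by omega⟩
  have hab : a < b := by rw [Fin.lt_def]; show n - 2 < n - 1; omega
  obtain ⟨y, hy, ey⟩ := exists_root cs (a := (a, true)) (b := (b, false)) (Or.inl hab.ne) rfl hab.le
  obtain ⟨t, ht, et⟩ := exists_root cs (a := (b, true)) (b := (b, true)) (Or.inr rfl) rfl le_rfl
  obtain ⟨d, hd, ed⟩ := exists_root cs (a := (a, true)) (b := (b, true)) (Or.inl hab.ne) rfl hab.le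
  obtain ⟨d', hd', ed'⟩ := exists_root cs (a := (a, true)) (b := (a, true)) (Or.inr rfl) rfl le_rfl
  have hya : sr a = y := by
    apply ee_injective
    rw [ey, ee_sr, bt, nx, dif_pos (show ((a : Fin n) : ℕ) + 1 < n by show n - 2 + 1 < n; omega)]
    congr 3
    exact Fin.ext (show n - 2 + 1 = n - 1 by omega)
  have htb : sr b = t := by
    apply ee_injective
    rw [et, ee_sr, bt, nx, dif_neg (show ¬ ((b : Fin n) : ℕ) + 1 < n by show ¬ n - 1 + 1 < n; omega)]
  have hdd : d = sr a + sr b := by
    apply ee_injective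
    rw [ed, ee_add, hya, htb, ey, et]
    have : wt ((b : Fin n), false) = - wt ((b : Fin n), true) := wt_ng (b, true)
    rw [this]; abel
  have hdd' : d' = sr a + sr a + sr b := by
    apply ee_injective
    rw [ed', ee_add, ee_add, hya, htb, ey, et]
    have : wt ((b : Fin n), false) = - wt ((b : Fin n), true) := wt_ng (b, true)
    rw [this]; abel
  refine ⟨a, b, d, d', ?_, hd.1, hdd, ?_, hd'.1, hd'.2, ?_, ?_, ?_, ?_, hab.ne, c, ?_, ?_, Or.inl ?_⟩
  · -- the other roots
    intro x hx h0 hs hxd hxd'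
    have plus : ∀ i j : Fin n, i < j → ¬ (i = a ∧ j = b) → ∀ x, ee x = wt (i, true) + wt (j, true) →
        X x ≤ ⁅U, U⁆ := by
      intro i j hij hne x ex
      by_cases hjb : j = b
      · have hia : i < a := by
          rw [Fin.lt_def] at hij ⊢
          have h1 : (j : ℕ) = n - 1 := by rw [hjb]
          have h2 : (i : ℕ) ≠ n - 2 := fun h3 => hne ⟨Fin.ext h3, hjb⟩
          show (i : ℕ) < n - 2
          omega
        obtain ⟨u, hu, eu⟩ := exists_root cs (a := (i, true)) (b := (a, false)) (Or.inl hia.ne) rfl hia.le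
        have haj : a < j := by rw [hjb]; exact hab
        obtain ⟨v, hv, ev⟩ := exists_root cs (a := (a, true)) (b := (j, true)) (Or.inl haj.ne) rfl haj.le
        exact (le_comm_XX M (a := (i, true)) (b := (a, false)) (c := (j, true)) hia.ne haj.ne hij.ne eu ev ex).trans
          (hcom hu hv)
      · have hjb' : j < b := by
          rw [Fin.lt_def]
          have h2 : (j : ℕ) ≠ n - 1 := fun h3 => hjb (Fin.ext h3)
          have := j.2
          show (j : ℕ) < n - 1
          omega
        obtain ⟨u, hu, eu⟩ := exists_root cs (a := (j, true)) (b := (b, false)) (Or.inl hjb'.ne) rfl hjb'.le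
        obtain ⟨v, hv, ev⟩ := exists_root cs (a := (i, true)) (b := (b, true)) (Or.inl (hij.trans hjb').ne) rfl
          (hij.trans hjb').le
        exact (le_comm_XX M (a := (j, true)) (b := (b, false)) (c := (i, true)) hjb'.ne (hij.trans hjb').ne'
          hij.ne' eu (show ee v = wt (b, true) + wt (i, true) by rw [ev, add_comm])
          (show ee x = wt (j, true) + wt (i, true) by rw [ex, add_comm])).trans (hcom hu hv)
    obtain ⟨⟨i, s⟩, ⟨j, t'⟩, hs1, hij, hok, e⟩ := exists_pos hx h0
    simp only at hs1 hij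
    subst hs1
    rcases eq_or_lt_of_le hij with h1 | h1
    · subst h1
      have hst : t' = true := by
        rcases hok with h2 | h2
        · exact absurd rfl h2
        · exact (Prod.mk.inj h2).2.symm
      subst hst
      have hia : i < a := by
        rw [Fin.lt_def]
        have h2 : (i : ℕ) ≠ n - 2 := fun h3 => hxd' (ee_injective (by rw [e, ed', show i = a from Fin.ext h3]))
        have h3 : (i : ℕ) ≠ n - 1 := fun h3 => hs b (ee_injective (by rw [htb, e, et, show i = b from Fin.ext h3]))
        have := i.2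
        show (i : ℕ) < n - 2
        omega
      have hib : i < b := hia.trans hab
      obtain ⟨y', hy', ey'⟩ := exists_root cs (a := (i, true)) (b := (b, false)) (Or.inl hib.ne) rfl hib.le
      obtain ⟨x', hx', ex'⟩ := exists_root cs (a := (i, true)) (b := (b, true)) (Or.inl hib.ne) rfl hib.le
      exact Z_le_of M (a := (i, true)) (b := (b, true)) hib.ne ex' ey' e et (hcom hy' ht)
        (plus i b hib (fun h2 => hia.ne h2.1) x' ex')
    · cases t'
      · by_cases hn : (i : ℕ) + 1 = j
        · exfalso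
          apply hs i
          apply ee_injective
          rw [e, ee_sr, bt, nx, dif_pos (by rw [hn]; exact j.2)]
          congr 3
          exact Fin.ext hn.symm
        · have hlt : (i : ℕ) + 1 < j := by have := Fin.lt_def.1 h1; omega
          have hk : (i : ℕ) + 1 < n := hlt.trans j.2
          set k : Fin n := ⟨i + 1, hk⟩ with hkd
          have hik : i < k := by rw [Fin.lt_def]; simp [hkd]
          have hkj : k < j := by rw [Fin.lt_def]; exact hlt
          obtain ⟨y', hy', ey'⟩ := exists_root cs (a := (i, true)) (b := (k, false)) (Or.inl hik.ne) rfl hik.le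
          obtain ⟨z, hz, ez⟩ := exists_root cs (a := (k, true)) (b := (j, false)) (Or.inl hkj.ne) rfl hkj.le
          exact (TwWitt.a2 M i k j hik hkj y' z x ey' ez e).trans (hcom hy' hz)
      · refine plus i j h1 (fun h2 => hxd ?_) x e
        apply ee_injective
        rw [e, ed, h2.1, h2.2]
  · -- `d` not simple
    intro i h1
    have h2 := congrFun hdd a
    have h3 := congrFun hdd b
    rw [h1, Pi.add_apply, sr_self, sr_ne hab.ne, add_zero] at h2
    rw [h1, Pi.add_apply, sr_self, sr_ne hab.ne', zero_add] at h3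
    have h4 : a = i := by
      by_contra h5
      rw [sr_ne h5] at h2
      exact zero_ne_one h2
    rw [← h4, sr_ne hab.ne'] at h3
    exact zero_ne_one h3
  · intro i h1
    have h2 := congrFun hdd' b
    have h3 := congrFun hdd' a
    rw [h1, Pi.add_apply, Pi.add_apply, sr_self, sr_ne hab.ne', zero_add, zero_add] at h2
    rw [h1, Pi.add_apply, Pi.add_apply, sr_self, sr_ne hab.ne, add_zero] at h3
    have h4 : b = i := by
      by_contra h5
      rw [sr_ne h5] at h2
      exact zero_ne_one h2
    rw [← h4, sr_ne hab.ne] at h3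
    omega
  · intro h1
    have h2 := congrFun hdd a
    have h3 := congrFun hdd' a
    rw [← h1, h2, Pi.add_apply, Pi.add_apply, Pi.add_apply, sr_self, sr_ne hab.ne] at h3
    omega
  · intro k hka hkb
    rw [hdd', Pi.add_apply, Pi.add_apply, sr_ne hka, sr_ne hkb]; rfl
  · intro P hP
    exact ⟨fun h1 => Z_le_of M (a := (a, true)) (b := (b, true)) hab.ne ed ey ed' et ((hcom hy ht).trans hP) h1,
      fun h1 => X_le_of M hp0 (a := (a, true)) (b := (b, true)) hab.ne ed ey ed' et ((hcom hy ht).trans hP) h1⟩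
  · intro h1
    have := congrArg Fin.val h1
    simp only [c, a] at this
    omega
  · intro h1
    have := congrArg Fin.val h1
    simp only [c, b] at this
    omega
  · have hca : c ≠ a := by
      intro h1
      have := congrArg Fin.val h1
      simp only [c, a] at this
      omega
    rw [KindBC.B_apply_ne hca, if_neg, if_pos]
    · decide
    · right
      show n - 3 + 1 = n - 2
      omega
    · rintro (⟨h1, h2⟩ | ⟨h1, h2⟩)
      · simp only [c] at h1; omega
      · simp only [a] at h1; omega

theorem par_C (M : Model Fr K) (hA : AmbT Fr p M.I) [Finite V] [Finite K] [Fact p.Prime] [CharP F p] {p0 : Fr.Adm}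
    (hp0 : p0.c ≠ 0) (hn : 3 ≤ n) : Par p K := by
  have hW := finite_W (CoxeterMatrix.B n).toCoxeterSystem
  obtain ⟨a, b, d, d', hC⟩ := cgx (CoxeterMatrix.B n).toCoxeterSystem M hp0 hn
  have : Nontrivial (Fin n) := by
    obtain ⟨k, rfl⟩ : ∃ k, n = k + 2 := ⟨n - 2, by omega⟩
    infer_instance
  exact ParX.par (rgdC_model M hA hp0 _) (WittModel.G1_eq_top _ (by omega) _) hC (Nodes.KindBC.irr n)

end Model

/-- symplectic groups of rank at least 3, every field -/
theorem par_PSp {F : Type*} [Field F] [Fintype F] {m : ℕ} (hm : 3 ≤ m) {p : ℕ} [Fact p.Prime] [CharP F p] :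
    Par p (PSp m F) :=
  par_C (KInstSp.model m F) (AmbT.of_amb amb_Sp p) (p0 := SpIdent.adm 1) one_ne_zero hm

end Cfsg.Agent.H396.ParSp2
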