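import Mathlib
import Cfsg.Agent.H396.GlueSq
import Cfsg.Agent.H436.HeFive
import Cfsg.Agent.NotCT.Orders

/-!
# `SQ` for the Held group (helper396)

A proper subgroup of order divisible by `7 · 17` has commuting elements of orders 7 and 17; the elements of order 17
are self-centralizing (helper436).
-/

set_option autoImplicit false

namespace Cfsg.Agent.H396.SqHe

open Cfsg Cfsg.Agent.H396 Cfsg.Agent.H396.Glue Cfsg.Agent.OrdDiv Subgroup

universe w

variable (Tb : OrderTable.{w}) (hK : ∀ (S : Type w) [Group S] [Finite S] [IsSimpleGroup S], IsKnownSimple' S)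
  {T : Type w} [Group T] [Finite T] [IsSimpleGroup T]

include Tb hK

theorem he (h : Spor.IsoHe T) : SQ T := by
  have hN := NotCT.Orders.he h
  obtain ⟨e⟩ := h
  intro M hM _
  left
  by_contra hder
  have h17 : 17 ∣ Nat.card M := by
    by_contra h1
    exact hder (der_of_prime (by norm_num) (by rw [hN]; norm_num) h1)
  have h7 : 7 ∣ Nat.card M := by
    by_contra h1
    exact hder (der_of_prime (by norm_num) (by rw [hN]; norm_num) h1)
  have hlt : Nat.card M < 4030387200 := by
    rw [← hN]
    refine lt_of_le_of_ne (Nat.le_of_dvd Nat.card_pos (Subgroup.card_subgroup_dvd_card M)) fun h1 => hM ?_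
    exact Subgroup.eq_top_of_card_eq M h1
  have hd : Nat.card M ∣ 4030387200 := by rw [← hN]; exact Subgroup.card_subgroup_dvd_card M
  have hS : NoS.{w} (Nat.card M) 17 7 := by
    intro S _ _ hs hdS h1 h2
    have hna : ¬ ∀ a b : S, a * b = b * a := by
      intro hab
      let _ : CommGroup S := { (inferInstance : Group S) with mul_comm := hab }
      have h3 : (Nat.card S).Prime := IsSimpleGroup.prime_card
      have h4 := (Nat.prime_dvd_prime_iff_eq (by norm_num : Nat.Prime 17) h3).1 h1
      have h5 := (Nat.prime_dvd_prime_iff_eq (by norm_num : Nat.Prime 7) h3).1 h2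
      omega
    obtain ⟨g, hg, -, hc⟩ := exists_good Tb (hK S) hna (l := [(2, 10), (3, 3), (5, 2), (7, 3), (17, 1)])
      (N := 4030387200) (by decide +kernel) (hdS.trans hd)
    have hchk : ((cands [(2, 10), (3, 3), (5, 2), (7, 3), (17, 1)] 4030387200).all fun g =>
        !(decide (17 ∣ ordN g) && decide (7 ∣ ordN g)) || decide (ordN g = 4030387200)) = true := by decide +kernel
    have h3 := (List.all_eq_true.1 hchk) g hg
    rw [← hc] at h3
    simp only [h1, h2, decide_true, Bool.and_self, Bool.not_true, Bool.false_or, decide_eq_true_eq] at h3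
    have h4 := Nat.le_of_dvd Nat.card_pos hdS
    omega
  have hN0 : 0 < Nat.card M := Nat.card_pos
  obtain ⟨x, y, hx, hy, hxy⟩ := glue hN0 (by norm_num) (by norm_num) (by norm_num)
    (fun j hj hd' => of_powChk (u := 17) (v := 7) (N := 4030387200) (by norm_num) (by norm_num) (by norm_num)
      (by decide +kernel) j hj (hd'.trans hd))
    (fun j hj hd' => of_powChk (u := 7) (v := 17) (N := 4030387200) (by norm_num) (by norm_num) (by norm_num)
      (by decide +kernel) j hj (hd'.trans hd)) hS M dvd_rfl h17 h7
  -- the centralizer of `x` in the Held group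
  set a : Spor.He := e (x : T) with ha
  set b : Spor.He := e (y : T) with hb
  have ha17 : orderOf a = 17 := by rw [ha, MulEquiv.orderOf_eq, Subgroup.orderOf_coe]; exact hx
  have hb7 : orderOf b = 7 := by rw [hb, MulEquiv.orderOf_eq, Subgroup.orderOf_coe]; exact hy
  have hab : b * a = a * b := by
    rw [ha, hb, ← map_mul, ← map_mul]
    exact congrArg e (congrArg Subtype.val hxy.symm)
  have hc := H436.HeFive.cent17 a ha17
  have hbc : b ∈ centralizer ({a} : Set Spor.He) := mem_centralizer_singleton_iff.2 hab
  have h1 : orderOf b ∣ Nat.card (centralizer ({a} : Set Spor.He)) := Subgroup.orderOf_dvd_natCard _ hbc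
  rw [hb7] at h1
  have h2 := h1.trans hc
  revert h2
  norm_num

end Cfsg.Agent.H396.SqHe
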