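import Mathlib
import Cfsg.Agent.H138.SqChev2
import Cfsg.Agent.H396.ParF4

/-!
# `SQ` for `F₄(q)`, every field (helper396)

`sq_of_exists` is `H138.SqBase.sq_of_rgd` of helper138 with another hypothesis.
-/

set_option autoImplicit false
set_option linter.unusedSectionVars false

namespace Cfsg.Agent.H396.SqF4

open Cfsg
open CoxeterSystem Cfsg.Agent.ChevalleyStructure.CoxeterGeom Cfsg.Agent.Tits.Roots Cfsg.Agent.Tits.Core
  Cfsg.Agent.Tits.RootComb Cfsg.Agent.Nodes.Comb Cfsg.Agent.Nodes.Reps Cfsg.Agent.Nodes.BNOf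
  Cfsg.Agent.Nodes.StabComb Cfsg.Agent.Nodes.Bruhat Cfsg.Agent.Nodes.LeviDec Cfsg.Agent.Nodes.NormalForm
  Cfsg.Agent.ParSys Cfsg.Agent.ParSys.RootCount Cfsg.Agent.Tits.Exchange
  Cfsg.Agent.Omega.EH3Close.CountU
open Cfsg.Agent.Nodes Cfsg.Agent.Nodes.RGDLib Cfsg.Agent.Nodes.RGDChev
open Cfsg.Agent.ChevalleyStructure Cfsg.Agent.ChevalleyStructure.Elts
  Cfsg.Agent.ChevalleyStructure.CoxeterGeomTypes
open Cfsg.Agent.Omega.EH3.Kf.Lev (CommGen)
open Cfsg.Agent.H138.SqBase Cfsg.Agent.H138.SqChev Cfsg.Agent.H138.SqChev2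
open Cfsg.Lie

section Main

variable {k : ℕ} {W Y : Type*} [Group W] [Group Y] {M : CoxeterMatrix (Fin k)}
  {cs : CoxeterSystem M W} {A : Fin k → Fin k → ℤ} {h : IsCartan M A} {p : ℕ} {T : Subgroup Y} {n : Fin k → Y}
  {X : (Fin k → ℤ) → Subgroup Y}

/-- **`SQ` from a root group datum**, with the conjugation into parabolic subgroups as a hypothesis. -/
theorem sq_of_exists [Finite W] [Finite Y] [Fact p.Prime] (R : RGD cs h p T n X)
    (H : ∀ P : Subgroup Y, P ≠ ⊤ → ¬ p ^ 2 ∣ P.index → ∃ (g : Y) (K : Set (Fin k)), K ≠ Set.univ ∧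
      cj g P ≤ PJ cs h T X K)
    {L : List (Fin k → ℤ)} (hR : PosRoots A L.toFinset) (hN : L.Nodup) {len : (Fin k → ℤ) → ℕ}
    (hlen : ∀ i, ∀ v ∈ L, v ≠ Pi.single i 1 → len (refl A i v) = len v)
    {q d u : ℕ} (hq2 : 2 ≤ q) (hpq : p ∣ q) (hq : ∀ i, Nat.card (X (sr i)) = q ^ len (Pi.single i 1))
    (hu : H436.Prim q d u) (hd : 2 ≤ d) (hT : ¬ u ∣ Nat.card T) (hY : u ∣ Nat.card Y)
    {Tb : List (ℕ × ℕ)} (hTb : (L.map fun v => (supp v, len v)) = Tb) {bad : List ℕ}
    (hchk : chk k d Tb bad = true)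
    (hbad : ∀ J : Finset (Fin k), mJ J ∈ bad →
      ∃ J₁ : Finset (Fin k), J₁ ⊆ J ∧ J₁.Nonempty ∧ J₁ ≠ J ∧ ∀ a ∈ J₁, ∀ b ∈ J, b ∉ J₁ → M a b = 2) : SQ Y := by
  have hup : u ≠ p := by
    rintro rfl
    exact hu.not_dvd hpq
  intro P hP hsq
  left
  obtain ⟨g, K, hK, hle⟩ := H P hP (fun h1 => (Fact.out : p.Prime).one_lt.ne'
    (Nat.isUnit_iff.1 (hsq p (by rwa [← sq]))))
  refine H396.der_of_prime hu.prime hY (H396.Crit.not_dvd_card R hu.prime hup hT ?_ hK hle)
  · intro J hJ hJ' hconn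
    have hcard : Nat.card (RGD.Sup X (PosJ cs h (J : Set (Fin k)))) = q ^ H138.SqBase.NN Tb (mJ J) := by
      classical
      rw [card_UJ R hR (wt := fun v => q ^ len v) (fun i v hv hne => by
        rw [hlen i v (List.mem_toFinset.1 hv) hne]) hq (J : Set (Fin k))]
      have e1 : (L.toFinset.filter fun v => ∀ i, i ∉ (J : Set (Fin k)) → v i = 0) =
          (L.filter fun v => supp v &&& mJ J == supp v).toFinset := by
        ext v
        rw [Finset.mem_filter, List.mem_toFinset, List.mem_toFinset, List.mem_filter, beq_iff_eq, supp_land]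
      rw [e1, List.prod_toFinset _ (hN.filter _)]
      unfold H138.SqBase.NN
      rw [← hTb]
      have e2 : ∀ L' : List (Fin k → ℤ), (L'.map fun v => q ^ len v).prod = q ^ (L'.map len).sum := by
        intro L'
        induction L' with
        | nil => simp
        | cons a L' ih => rw [List.map_cons, List.prod_cons, ih, List.map_cons, List.sum_cons, pow_add]
      rw [e2, List.filter_map, List.map_map]
      rfl
    rw [hcard, ← pc_mJ J]
    refine not_dvd_of_okB hq2 hu hd ?_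
    have h1 := (List.all_eq_true.1 hchk) (mJ J) (List.mem_range.2 (msk_lt _))
    rw [Bool.or_eq_true, Bool.or_eq_true, Bool.or_eq_true] at h1
    rcases h1 with ((h1 | h1) | h1) | h1
    · exfalso
      rw [beq_iff_eq] at h1
      have h2 : mJ (∅ : Finset (Fin k)) = 0 := by
        apply Nat.eq_of_testBit_eq
        intro j
        rw [Nat.zero_testBit]
        by_cases hj : j < k
        · have h1 := testBit_msk (fun i : Fin k => decide (i ∈ (∅ : Finset (Fin k)))) ⟨j, hj⟩
          simpa [mJ] using h1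
        · exact Nat.testBit_lt_two_pow (lt_of_lt_of_le (msk_lt _) (Nat.pow_le_pow_right two_pos (not_lt.1 hj)))
      have h3 := mJ_inj (h1.trans h2.symm)
      rw [h3] at hJ
      exact Finset.not_nonempty_empty hJ
    · exfalso
      rw [beq_iff_eq] at h1
      apply hJ'
      ext i
      simp only [Finset.mem_univ, iff_true]
      have h2 : (2 ^ k - 1).testBit i = true := by
        rw [Nat.testBit_two_pow_sub_one]
        exact decide_eq_true i.2
      rw [← h1] at h2
      simp only [mJ, testBit_msk] at h2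
      simpa using h2
    · exfalso
      obtain ⟨J₁, h2, h3, h4, h5⟩ := hbad J (List.contains_iff_mem.1 h1)
      obtain ⟨a, ha, b, hb, hb1, hab⟩ := hconn J₁ h2 h3 h4
      exact hab (h5 a ha b hb hb1)
    · exact h1

end Main

theorem sq_F4 {F : Type} [Field F] [Fintype F] : SQ ↥(chevF4.group F) := by
  obtain ⟨p, hpc⟩ := CharP.exists F
  have : Fact p.Prime := ⟨CharP.char_is_prime F p⟩
  have hp := Omega.ML.Ex.Lie2.DatF4.isType_F4
  have hW : Finite CoxeterMatrix.F₄.Group := finite_W hp CoxeterMatrix.F₄.toCoxeterSystem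
  obtain ⟨u, hu⟩ := H436.exists_prim (q := Fintype.card F) (e := 12) (Fintype.one_lt_card (α := F)) (by norm_num)
    (by omega)
  have hR := posRoots_F
  rw [← (show cartanOf chevF4 4 = BF by decide +kernel)] at hR
  have R := rgd (K := F) hp CoxeterMatrix.F₄.toCoxeterSystem p
  refine sq_of_exists R (ParX.exists_le_PJ R (G1_eq_top hp _) (ParF4.cgx F) (Nodes.Chart.Ty.irr .F4 trivial)) hR
    (L := LF) (by decide +kernel) (len := fun _ => 1) (fun _ _ _ _ => rfl) (Fintype.one_lt_card (α := F)) ?_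
    (fun i => ?_) hu (d := 12) (by norm_num) ?_ ?_ rfl (bad := []) (by decide +kernel)
    (fun J hJ => absurd hJ (by simp))
  · obtain ⟨k, hk⟩ := FiniteField.card F p
    rw [hk.2]
    exact dvd_pow_self p k.ne_zero
  · rw [pow_one]
    exact card_X hp F i
  · refine not_dvd_of_pow (e := 1) hu (by intro h1; have := Nat.le_of_dvd one_pos h1; omega) ?_
    intro t ht
    rw [pow_one]
    apply Subtype.ext
    rw [SubgroupClass.coe_pow]
    exact diag_pow hp F (Subgroup.mem_subgroupOf.1 ht)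
  · have h1 := Cfsg.Agent.S1062.result (F := F) rfl
    rw [h1]
    exact Dvd.dvd.mul_left (hu.dvd dvd_rfl) _

end Cfsg.Agent.H396.SqF4
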