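import Mathlib
import Cfsg.Agent.H138.SqChev2
import Cfsg.Agent.H187.TwF4SQ
import Cfsg.Agent.H394.SqAlt
import Cfsg.Agent.H394.SqPsl2
import Cfsg.Agent.H394.SqPsu3
import Cfsg.Agent.H394.SqSzRee
import Cfsg.Agent.H396.ClFam
import Cfsg.Agent.H396.ParSp2
import Cfsg.Agent.H396.SqF4
import Cfsg.Agent.H686.SqPlus
import Cfsg.Agent.H686.SqSmall

/-!
# `SQ` for the known simple groups except the sporadic groups and the Tits group (helper396)
-/

set_option autoImplicit false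
set_option linter.unusedSectionVars false

namespace Cfsg.Agent.H396

open Cfsg Cfsg.Agent.H394

theorem sq_psp_all {F : Type} [Field F] [Fintype F] {m : ℕ} (hm : 2 ≤ m) (h3 : m = 2 → 3 ≤ Fintype.card F) :
    SQ (PSp m F) := by
  obtain ⟨p, _, hp⟩ := ClFam.exists_char F
  have := Fact.mk hp
  have hPar : Par p (PSp m F) := by
    by_cases hm2 : m = 2
    · exact (CommTab.hasCG_PSp hm (h3 hm2)).par
    · exact ParSp2.par_PSp (by omega)
  by_cases h6 : Fintype.card F = 2 ∧ m = 3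
  · obtain ⟨hF, rfl⟩ := h6
    have hp2 : p = 2 := CharP.eq F ‹CharP F p› (charP_of_card_eq_prime (p := 2) hF)
    subst hp2
    exact H686.SqSmall.sq_psp62 hF hPar
  · exact ClFam.sq_psp hm h6 hPar

/-- the known simple groups, the sporadic groups and the Tits group being a hypothesis -/
theorem sq_known_of {T : Type*} [Group T] [Finite T] [IsSimpleGroup T] (h : IsKnownSimple' T)
    (hc : ¬ IsPrimeCyclic T) (hs : IsSporadicGroup T ∨ Lie.IsoTits T → SQ T) : SQ T := by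
  rcases h with h | h | h | h | h | h | h | h | h | h
  · exact absurd h hc
  · exact SqAlt.sq_alt h
  · obtain ⟨F, _, _, n, hn, h4, ⟨e⟩⟩ := h
    by_cases hn2 : n = 2
    · subst hn2
      exact SqPsl2.sq_psl2 (h4 rfl) e
    refine H394.SqBasic.SQ.congr e.symm ?_
    by_cases h6 : Fintype.card F = 2 ∧ n = 6
    · obtain ⟨hF, rfl⟩ := h6
      exact H686.SqSmall.sq_psl62 hF
    · exact ClFam.sq_psl (by omega) h6
  · obtain ⟨F, _, _, m, hm, h3, ⟨e⟩⟩ := h
    exact H394.SqBasic.SQ.congr e.symm (sq_psp_all hm h3)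
  · obtain ⟨F, _, _, n, q, hF, hn, h32, ⟨e⟩⟩ := h
    by_cases hn3 : n = 3
    · subst hn3
      exact SqPsu3.sq_psu3 hF (fun h => h32 ⟨rfl, h⟩) e
    refine H394.SqBasic.SQ.congr e.symm ?_
    by_cases h4 : q = 2 ∧ n = 4
    · obtain ⟨rfl, rfl⟩ := h4
      exact H686.SqSmall.sq_psu42 hF
    · exact ClFam.sq_psu hF (by omega) h4
  · obtain ⟨F, _, _, m, hm, ho, ⟨e⟩⟩ := h
    exact H394.SqBasic.SQ.congr e.symm (ClFam.sq_po_odd hm ho)
  · obtain ⟨F, _, _, m, hm, ⟨e⟩⟩ := h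
    exact H394.SqBasic.SQ.congr e.symm (H686.SqPlus.sq_po_plus hm)
  · obtain ⟨F, _, _, m, a, b, hm, hab, ⟨e⟩⟩ := h
    exact H394.SqBasic.SQ.congr e.symm (ClFam.sq_po_minus hm hab)
  · rcases h with h | h | h | h | h | h | h | h | h | h | h
    · obtain ⟨F, _, _, h3, ⟨e⟩⟩ := h
      exact H394.SqBasic.SQ.congr e.symm (H138.SqChev2.sq_G2 h3)
    · obtain ⟨F, _, _, ⟨e⟩⟩ := h
      exact H394.SqBasic.SQ.congr e.symm SqF4.sq_F4
    · obtain ⟨F, _, _, ⟨e⟩⟩ := h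
      exact H394.SqBasic.SQ.congr e.symm H138.SqChev.sq_E6
    · obtain ⟨F, _, _, ⟨e⟩⟩ := h
      exact H394.SqBasic.SQ.congr e.symm H138.SqChev.sq_E7
    · obtain ⟨F, _, _, ⟨e⟩⟩ := h
      exact H394.SqBasic.SQ.congr e.symm H138.SqChev.sq_E8
    · obtain ⟨K, _, _, q, hq, hK, ⟨e⟩⟩ := h
      exact H394.SqBasic.SQ.congr e.symm (H138.SqChev2.sq_twE6 hq hK)
    · obtain ⟨K, _, _, q, hq, hK, ⟨e⟩⟩ := h
      exact H394.SqBasic.SQ.congr e.symm (H138.SqChev2.sq_twD4 hq hK)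
    · exact SqSzRee.sq_sz h
    · exact SqSzRee.sq_ree h
    · exact H187.sq_2F4' h
    · exact hs (Or.inr h)
  · exact hs (Or.inl h)

end Cfsg.Agent.H396
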