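import Mathlib
import Cfsg.Agent.S0000
import Cfsg.Agent.OrdDiv.Table
import Cfsg.Agent.H396.SqLie
import Cfsg.Agent.H396.SqHe
import Cfsg.Agent.H394.SqSporA
import Cfsg.Agent.H394.SqSporC
import Cfsg.Agent.H394.SqSporOrd
import Cfsg.Agent.H394.SqSporHM
import Cfsg.Agent.H394.SqSporJ
import Cfsg.Agent.H394.SqSporFi
import Cfsg.Agent.H394.SqSporRu
import Cfsg.Agent.H394.SqSporTits

/-!
# `SQ` for every finite nonabelian simple group (helper396)

`sq_all` : a proper subgroup of square-free index in a finite nonabelian simple group `T` misses the `Aut T`-class of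
some element of prime order, or `|T| = 360` and the index is 6.
-/

set_option autoImplicit false

namespace Cfsg.Agent.H396

open Cfsg Cfsg.Agent.OrdDiv

universe w

theorem known_all (S : Type w) [Group S] [Finite S] [IsSimpleGroup S] : IsKnownSimple' S :=
  Cfsg.Agent.S0000.result

/-- `SQ` for the sporadic groups and the Tits group. -/
theorem sq_spor {T : Type w} [Group T] [Finite T] [IsSimpleGroup T] (h : IsSporadicGroup T ∨ Lie.IsoTits T) :
    SQ T := by
  rcases h with h | h
  · rcases h with h | h | h | h | h | h | h | h | h | h | h | h | h | h | h | h | h | h | h | h | h | h | h | h | h | h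
    · exact H394.SqSporOrd.m11 h
    · exact H394.SqSporOrd.m12 h
    · exact H394.SqSporOrd.m22 h
    · exact H394.SqSporOrd.m23 h
    · exact H394.SqSporOrd.m24 h
    · exact H394.SqSporOrd.j1 h
    · exact H394.SqSporA.j2 h
    · exact H394.SqSporOrd.j3 h
    · exact H394.SqSporA.j4 h
    · exact H394.SqSporC.co1 h
    · exact H394.SqSporA.co2 h
    · exact H394.SqSporJ.co3 h
    · exact H394.SqSporHM.mcl h
    · exact H394.SqSporHM.hs h
    · exact H394.SqSporA.suz h
    · exact SqHe.he OrdDiv.table (fun S _ _ _ => known_all S) h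
    · exact H394.SqSporRu.ru h
    · exact H394.SqSporJ.on h
    · exact H394.SqSporOrd.ly h
    · exact H394.SqSporFi.fi22 h
    · exact H394.SqSporJ.fi23 h
    · exact H394.SqSporA.fi24 h
    · exact H394.SqSporA.hn h
    · exact H394.SqSporC.th h
    · exact H394.SqSporC.baby h
    · exact H394.SqSporC.monster h
  · exact H394.SqSporTits.tits h

/-- `SQ` for every finite nonabelian simple group. -/
theorem sq_all {T : Type w} [Group T] [Finite T] [IsSimpleGroup T] (hna : ∃ a b : T, a * b ≠ b * a) : SQ T := by
  refine sq_known_of (known_all T) ?_ sq_spor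
  intro hp
  obtain ⟨a, b, hab⟩ := hna
  have : Fact (Nat.card T).Prime := ⟨hp⟩
  have hcyc : IsCyclic T := isCyclic_of_prime_card rfl
  let _ : CommGroup T := hcyc.commGroup
  exact hab (mul_comm a b)

end Cfsg.Agent.H396
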