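import Mathlib
import Cfsg.Agent.H396.GlueSq
import Cfsg.Agent.NotCT.Orders

/-!
# `SQ` for `HS`, `Ru`, `O'N`, `Fi22`, `Fi23` and the Tits group by the glue argument (helper396)
-/

set_option autoImplicit false

namespace Cfsg.Agent.H396.SqSpor2

open Cfsg Cfsg.Agent.H396 Cfsg.Agent.H396.Glue Cfsg.Agent.H394.SqSporBase Cfsg.Agent.OrdDiv
open scoped Nat

universe w

variable (Tb : OrderTable.{w}) (hK : ∀ (S : Type w) [Group S] [Finite S] [IsSimpleGroup S], IsKnownSimple' S)
  {T : Type w} [Group T] [Finite T] [IsSimpleGroup T]

include Tb hK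

theorem tits (h : Lie.IsoTits T) : SQ T := by
  have hN := NotCT.Orders.tits h
  have hS : NoS.{w} 1198080 13 5 := noS_of Tb hK (l := [(2, 11), (3, 2), (5, 1), (13, 1)]) (by decide +kernel)
    (by norm_num) (by norm_num) (by norm_num) (by decide +kernel)
  refine sq_of_cases (N := 17971200) (W := 30) (L := [2, 3, 5, 13]) ⟨?_, ?_, ?_, {2, 3, 5}, ?_, ?_⟩
    hN (p := 13) (by norm_num) (by norm_num) [15, 30] ?_ ?_
  · decide +kernel
  · decide +kernel
  · decide
  · decide
  · decide +kernel
  · exact of_idxChk (by decide +kernel)
  · intro M hM hder hi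
    rw [List.mem_cons, List.mem_singleton] at hi
    rcases hi with hi | hi
    · exact false_of_glue hM hder hN hi (N' := 1198080) (u := 13) (v := 5) (by norm_num) (by norm_num) (by norm_num)
        (by norm_num) hS (by norm_num) (by decide +kernel) (by decide +kernel) (by norm_num) (by norm_num)
        (by norm_num) (by decide +kernel)
    · exact false_of_glue hM hder hN hi (N' := 599040) (u := 13) (v := 5) (by norm_num) (by norm_num) (by norm_num)
        (by norm_num) (hS.dvd (by norm_num)) (by norm_num) (by decide +kernel) (by decide +kernel) (by norm_num)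
        (by norm_num) (by norm_num) (by decide +kernel)

theorem hs (h : Spor.IsoHS T) : SQ T := by
  have hN := NotCT.Orders.hs h
  have hS : NoS.{w} 2956800 11 7 := noS_of Tb hK (l := [(2, 9), (3, 1), (5, 2), (7, 1), (11, 1)]) (by decide +kernel)
    (by norm_num) (by norm_num) (by norm_num) (by decide +kernel)
  refine sq_of_cases (N := 44352000) (W := 30) (L := [2, 3, 5, 7, 11]) ⟨?_, ?_, ?_, {2, 3, 5}, ?_, ?_⟩
    hN (p := 11) (by norm_num) (by norm_num) [15, 30] ?_ ?_
  · decide +kernel
  · decide +kernel
  · decide
  · decide
  · decide +kernel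
  · exact of_idxChk (by decide +kernel)
  · intro M hM hder hi
    rw [List.mem_cons, List.mem_singleton] at hi
    rcases hi with hi | hi
    · exact false_of_glue hM hder hN hi (N' := 2956800) (u := 11) (v := 7) (by norm_num) (by norm_num) (by norm_num)
        (by norm_num) hS (by norm_num) (by decide +kernel) (by decide +kernel) (by norm_num) (by norm_num)
        (by norm_num) (by decide +kernel)
    · exact false_of_glue hM hder hN hi (N' := 1478400) (u := 11) (v := 7) (by norm_num) (by norm_num) (by norm_num)
        (by norm_num) (hS.dvd (by norm_num)) (by norm_num) (by decide +kernel) (by decide +kernel) (by norm_num)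
        (by norm_num) (by norm_num) (by decide +kernel)

theorem ru (h : Spor.IsoRu T) : SQ T := by
  have hN := NotCT.Orders.ru h
  have hS : NoS.{w} 4864204800 29 13 := noS_of Tb hK (l := [(2, 13), (3, 2), (5, 2), (7, 1), (13, 1), (29, 1)])
    (by decide +kernel) (by norm_num) (by norm_num) (by norm_num) (by decide +kernel)
  refine sq_of_cases (N := 145926144000) (W := 30) (L := [2, 3, 5, 7, 13, 29]) ⟨?_, ?_, ?_, {2, 3, 5}, ?_, ?_⟩
    hN (p := 29) (by norm_num) (by norm_num) [30] ?_ ?_
  · decide +kernel
  · decide +kernel
  · decide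
  · decide
  · decide +kernel
  · exact of_idxChk (by decide +kernel)
  · intro M hM hder hi
    rw [List.mem_singleton] at hi
    exact false_of_glue hM hder hN hi (N' := 4864204800) (u := 29) (v := 13) (by norm_num) (by norm_num) (by norm_num)
      (by norm_num) hS (by norm_num) (by decide +kernel) (by decide +kernel) (by norm_num) (by norm_num)
      (by norm_num) (by decide +kernel)

theorem on (h : Spor.IsoON T) : SQ T := by
  have hN := NotCT.Orders.on h
  have hS : NoS.{w} 10971797760 31 19 := noS_of Tb hK
    (l := [(2, 8), (3, 3), (5, 1), (7, 2), (11, 1), (19, 1), (31, 1)])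
    (by decide +kernel) (by norm_num) (by norm_num) (by norm_num) (by decide +kernel)
  refine sq_of_cases (N := 460815505920) (W := 42) (L := [2, 3, 5, 7, 11, 19, 31]) ⟨?_, ?_, ?_, {2, 3, 7}, ?_, ?_⟩
    hN (p := 31) (by norm_num) (by norm_num) [42] ?_ ?_
  · decide +kernel
  · decide +kernel
  · decide
  · decide
  · decide +kernel
  · exact of_idxChk (by decide +kernel)
  · intro M hM hder hi
    rw [List.mem_singleton] at hi
    exact false_of_glue hM hder hN hi (N' := 10971797760) (u := 31) (v := 19) (by norm_num) (by norm_num)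
      (by norm_num) (by norm_num) hS (by norm_num) (by decide +kernel) (by decide +kernel) (by norm_num) (by norm_num)
      (by norm_num) (by decide +kernel)

theorem fi22 (h : Spor.IsoFi22 T) : SQ T := by
  have hN := NotCT.Orders.fi22 h
  have hS : NoS.{w} 2152058388480 13 11 := noS_of Tb hK
    (l := [(2, 16), (3, 8), (5, 1), (7, 1), (11, 1), (13, 1)])
    (by decide +kernel) (by norm_num) (by norm_num) (by norm_num) (by decide +kernel)
  refine sq_of_cases (N := 64561751654400) (W := 30) (L := [2, 3, 5, 7, 11, 13]) ⟨?_, ?_, ?_, {2, 3, 5}, ?_, ?_⟩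
    hN (p := 13) (by norm_num) (by norm_num) [30] ?_ ?_
  · decide +kernel
  · decide +kernel
  · decide
  · decide
  · decide +kernel
  · exact of_idxChk (by decide +kernel)
  · intro M hM hder hi
    rw [List.mem_singleton] at hi
    exact false_of_glue hM hder hN hi (N' := 2152058388480) (u := 13) (v := 11) (by norm_num) (by norm_num)
      (by norm_num) (by norm_num) hS (by norm_num) (by decide +kernel) (by decide +kernel) (by norm_num) (by norm_num)
      (by norm_num) (by decide +kernel)

theorem fi23 (h : Spor.IsoFi23 T) : SQ T := by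
  have hN := NotCT.Orders.fi23 h
  have hS : NoS.{w} 136315682443100160 23 17 := noS_of Tb hK
    (l := [(2, 17), (3, 12), (5, 1), (7, 1), (11, 1), (13, 1), (17, 1), (23, 1)])
    (by decide +kernel) (by norm_num) (by norm_num) (by norm_num) (by decide +kernel)
  refine sq_of_cases (N := 4089470473293004800) (W := 30) (L := [2, 3, 5, 7, 11, 13, 17, 23])
    ⟨?_, ?_, ?_, {2, 3, 5}, ?_, ?_⟩ hN (p := 23) (by norm_num) (by norm_num) [30] ?_ ?_
  · decide +kernel
  · decide +kernel
  · decide
  · decide
  · decide +kernel
  · exact of_idxChk (by decide +kernel)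
  · intro M hM hder hi
    rw [List.mem_singleton] at hi
    exact false_of_glue hM hder hN hi (N' := 136315682443100160) (u := 23) (v := 17) (by norm_num) (by norm_num)
      (by norm_num) (by norm_num) hS (by norm_num) (by decide +kernel) (by decide +kernel) (by norm_num) (by norm_num)
      (by norm_num) (by decide +kernel)

end Cfsg.Agent.H396.SqSpor2
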